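import Mathlib

/-!
# Root data of the Sylow 2-subgroups of `G₂(q)` and `³D₄(q)`, `q` even (uniform definitions)

`F ≤ K` fields of characteristic 2, `φ` an automorphism of `K` over `F` with `φ³ = 1` and fixed field `F`:
for `K = F`, `φ = 1` the structure `HexRel` below describes a Sylow 2-subgroup of `G₂(F)`, for `[K : F] = 3` one of
`³D₄`.  Letters: `a` short simple root, `b` long simple root, `c = a+b`, `d = 2a+b`, `e = 3a+b`, `f = 3a+2b`.
-/

set_option autoImplicit false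

namespace Cfsg.Agent.Hex.Defs

open Subgroup

variable {F K : Type*} [Field F] [Field K] [Algebra F K]

/-- The pair `(K, φ)`: characteristic 2, `φ³ = 1` and `F` is the fixed field of `φ`. -/
structure CubicPair (φ : K ≃ₐ[F] K) : Prop where
  two : (2 : K) = 0
  three : ∀ t : K, φ (φ (φ t)) = t
  fixed : ∀ t : K, φ t = t → ∃ s : F, algebraMap F K s = t

/-- `t^# = φ(t) φ²(t)`. -/
def sh (φ : K ≃ₐ[F] K) (t : K) : K := φ t * φ (φ t)

/-- `s × t = φ(s) φ²(t) + φ²(s) φ(t)`. -/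
def cr (φ : K ≃ₐ[F] K) (s t : K) : K := φ s * φ (φ t) + φ (φ s) * φ t

/-- the norm `t φ(t) φ²(t)`, as an element of `F`. -/
noncomputable def nm (φ : K ≃ₐ[F] K) (t : K) : F := Function.invFun (algebraMap F K) (t * φ t * φ (φ t))

/-- the trace `t + φ(t) + φ²(t)`, as an element of `F` (the identity if `K = F`, in characteristic 2). -/
noncomputable def tr (φ : K ≃ₐ[F] K) (t : K) : F := Function.invFun (algebraMap F K) (t + φ t + φ (φ t))

theorem algebraMap_nm {φ : K ≃ₐ[F] K} (h : CubicPair φ) (t : K) :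
    algebraMap F K (nm φ t) = t * φ t * φ (φ t) := by
  apply Function.invFun_eq
  apply h.fixed
  rw [map_mul, map_mul, h.three]
  ring

theorem algebraMap_tr {φ : K ≃ₐ[F] K} (h : CubicPair φ) (t : K) :
    algebraMap F K (tr φ t) = t + φ t + φ (φ t) := by
  apply Function.invFun_eq
  apply h.fixed
  rw [map_add, map_add, h.three]
  ring

/-- Root homomorphisms and commutator relations of a Sylow 2-subgroup of `G₂(q)` or `³D₄(q)`, `q` even. -/
structure HexRel (φ : K ≃ₐ[F] K) (S : Type*) [Group S] where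
  xa : K → S
  xb : F → S
  xc : K → S
  xd : K → S
  xe : F → S
  xf : F → S
  xa_add : ∀ s t, xa (s + t) = xa s * xa t
  xb_add : ∀ s t, xb (s + t) = xb s * xb t
  xc_add : ∀ s t, xc (s + t) = xc s * xc t
  xd_add : ∀ s t, xd (s + t) = xd s * xd t
  xe_add : ∀ s t, xe (s + t) = xe s * xe t
  xf_add : ∀ s t, xf (s + t) = xf s * xf t
  rel_ab : ∀ t u, xa t * xb u * (xa t)⁻¹ =
    xb u * xc (t * algebraMap F K u) * xd (sh φ t * algebraMap F K u) * xe (nm φ t * u) * xf (nm φ t * u ^ 2)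
  rel_ac : ∀ t s, xa t * xc s * (xa t)⁻¹ = xc s * xd (cr φ t s) * xe (tr φ (sh φ t * s)) * xf (tr φ (t * sh φ s))
  rel_ad : ∀ t k, xa t * xd k * (xa t)⁻¹ = xd k * xe (tr φ (t * k))
  rel_be : ∀ u v, xb u * xe v * (xb u)⁻¹ = xe v * xf (u * v)
  rel_cd : ∀ s k, xc s * xd k * (xc s)⁻¹ = xd k * xf (tr φ (s * k))
  comm_ae : ∀ t v, Commute (xa t) (xe v)
  comm_af : ∀ t z, Commute (xa t) (xf z)
  comm_bc : ∀ u s, Commute (xb u) (xc s)
  comm_bd : ∀ u k, Commute (xb u) (xd k)
  comm_bf : ∀ u z, Commute (xb u) (xf z)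
  comm_ce : ∀ s v, Commute (xc s) (xe v)
  comm_cf : ∀ s z, Commute (xc s) (xf z)
  comm_de : ∀ k v, Commute (xd k) (xe v)
  comm_df : ∀ k z, Commute (xd k) (xf z)
  comm_ef : ∀ v z, Commute (xe v) (xf z)
  /-- unique factorisation -/
  bij : Function.Bijective fun p : K × F × K × K × F × F =>
    xa p.1 * xb p.2.1 * xc p.2.2.1 * xd p.2.2.2.1 * xe p.2.2.2.2.1 * xf p.2.2.2.2.2

end Cfsg.Agent.Hex.Defs
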