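import Cfsg.Agent.Hex.SEAbs
import Cfsg.Agent.Lib.EssDefs

/-!
# Essential subgroups: involutions acting on invariant sections

Group level form of the lemmas of `Hex.SEAbs`, for an essential subgroup `X` of a 2-group `P` of a finite group.
-/

set_option autoImplicit false

namespace Cfsg.Agent.Hex.SE

open Subgroup Cfsg.Agent.Lib.EssDefs Cfsg.Agent.Hex.SEAbs

universe u

variable {G : Type u} [Group G]

/-- `X C_G(X)` -/
def K0 (X : Subgroup G) : Subgroup G := X ⊔ centralizer (X : Set G)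

theorem K0_le (X : Subgroup G) : K0 X ≤ normalizer (X : Set G) :=
  sup_le le_normalizer (centralizer_le_normalizer _)

theorem K0_conj {X : Subgroup G} {n : G} (hn : n ∈ normalizer (X : Set G)) {g : G} (hg : g ∈ K0 X) :
    n * g * n⁻¹ ∈ K0 X := by
  have h1 : (K0 X).map (MulAut.conj n).toMonoidHom = K0 X := by
    unfold K0
    rw [Subgroup.map_sup]
    have e1 : X.map (MulAut.conj n).toMonoidHom = X := mem_normalizer_iff_map_conj_eq.1 hn
    have e2 : (centralizer (X : Set G)).map (MulAut.conj n).toMonoidHom = centralizer (X : Set G) := by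
      apply le_antisymm
      · rintro _ ⟨c, hc, rfl⟩
        rw [mem_centralizer_iff]
        intro x hx
        have h2 : n⁻¹ * x * n ∈ X := by
          have := (mem_normalizer_iff.1 (inv_mem hn) x).1 hx
          simpa using this
        have h3 := mem_centralizer_iff.1 hc _ h2
        simp only [MulEquiv.toMonoidHom_eq_coe, MonoidHom.coe_coe, MulAut.conj_apply]
        calc x * (n * c * n⁻¹) = n * (n⁻¹ * x * n * c) * n⁻¹ := by group
          _ = n * (c * (n⁻¹ * x * n)) * n⁻¹ := by rw [h3]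
          _ = n * c * n⁻¹ * x := by group
      · intro c hc
        refine ⟨n⁻¹ * c * n, ?_, by simp [mul_assoc]⟩
        rw [SetLike.mem_coe, mem_centralizer_iff]
        intro x hx
        have h2 : n * x * n⁻¹ ∈ X := (mem_normalizer_iff.1 hn x).1 hx
        have h3 := mem_centralizer_iff.1 hc _ h2
        calc x * (n⁻¹ * c * n) = n⁻¹ * (n * x * n⁻¹ * c) * n := by group
          _ = n⁻¹ * (c * (n * x * n⁻¹)) * n := by rw [h3]
          _ = n⁻¹ * c * n * x := by group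
    rw [e1, e2]
  rw [← h1]
  exact ⟨g, hg, rfl⟩

/-- `X C_G(X)` as a subgroup of `N_G(X)` -/
abbrev K0' (X : Subgroup G) : Subgroup ↥(normalizer (X : Set G)) := (K0 X).subgroupOf _

instance (X : Subgroup G) : (K0' X).Normal where
  conj_mem g hg n := by
    rw [mem_subgroupOf] at hg ⊢
    exact K0_conj n.2 hg

/-- `N_G(X) → N_G(X) / X C_G(X)` -/
abbrev pr (X : Subgroup G) : ↥(normalizer (X : Set G)) →* ↥(normalizer (X : Set G)) ⧸ K0' X := QuotientGroup.mk' (K0' X)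

theorem pr_eq_one {X : Subgroup G} {g : ↥(normalizer (X : Set G))} : pr X g = 1 ↔ (g : G) ∈ K0 X := by
  rw [QuotientGroup.mk'_apply, QuotientGroup.eq_one_iff, mem_subgroupOf]

variable {P X H : Subgroup G}

theorem mem_map_pr (h : IsEss 2 P X H) (g : ↥(normalizer (X : Set G))) :
    pr X g ∈ (H.subgroupOf (normalizer (X : Set G))).map (pr X) ↔ (g : G) ∈ H := by
  constructor
  · rintro ⟨k, hk, hkg⟩
    rw [SetLike.mem_coe, mem_subgroupOf] at hk
    have h1 : pr X (k⁻¹ * g) = 1 := by rw [map_mul, map_inv, hkg, inv_mul_cancel]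
    rw [pr_eq_one] at h1
    have h2 := h.sup_le h1
    have := H.mul_mem hk h2
    simpa using this
  · intro hg
    exact ⟨g, by rw [SetLike.mem_coe, mem_subgroupOf]; exact hg, rfl⟩

/-- the quotient `H / X C_G(X)` is strongly embedded -/
theorem semb (h : IsEss 2 P X H) : SEmb ((H.subgroupOf (normalizer (X : Set G))).map (pr X)) := by
  constructor
  · intro htop
    apply h.ne
    apply le_antisymm h.le
    intro g hg
    rw [← mem_map_pr h ⟨g, hg⟩, htop]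
    exact mem_top _
  · intro x hx k hk hkk hxk
    obtain ⟨x, rfl⟩ := QuotientGroup.mk'_surjective _ x
    obtain ⟨k, rfl⟩ := QuotientGroup.mk'_surjective _ k
    have hx' := fun hh => hx ((mem_map_pr h x).2 hh)
    have hk' := (mem_map_pr h k).1 hk
    have h1 : pr X (x * k * x⁻¹) ∈ (H.subgroupOf (normalizer (X : Set G))).map (pr X) := by
      simpa using hxk
    rw [mem_map_pr h] at h1
    have h2 : pr X (k * k) = 1 := by rw [map_mul]; exact hkk
    rw [pr_eq_one] at h2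
    have h3 := h.se x x.2 hx' k hk' (by rw [pow_two]; exact h2) (by simpa using h1)
    exact pr_eq_one.2 h3

/-- for `P` a 2-group: an element of `P` in `X C_G(X)` is in `X` -/
theorem mem_of_mem_K0 (h : IsEss 2 P X H) {g : G} (hgP : g ∈ P) (hg : g ∈ K0 X) : g ∈ X := by
  have hn : X ≤ normalizer ((centralizer (X : Set G) : Subgroup G) : Set G) := by
    intro x hx
    rw [mem_normalizer_iff]
    intro c
    have key : ∀ (x : G), x ∈ X → ∀ c ∈ centralizer (X : Set G), x * c * x⁻¹ ∈ centralizer (X : Set G) := by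
      intro x hx c hc
      have : x * c * x⁻¹ = c := by
        rw [mem_centralizer_iff.1 hc x hx, mul_inv_cancel_right]
      rw [this]; exact hc
    refine ⟨key x hx c, fun hc => ?_⟩
    have := key x⁻¹ (inv_mem hx) _ hc
    simpa [mul_assoc] using this
  have hmem : g ∈ ((X ⊔ centralizer (X : Set G) : Subgroup G) : Set G) := hg
  rw [coe_mul_of_left_le_normalizer_right X _ hn] at hmem
  obtain ⟨x, hx, c, hc, rfl⟩ := hmem
  have hcP : c ∈ P := (P.mul_mem_cancel_left (h.lt.le hx)).1 hgP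
  exact X.mul_mem hx (h.cent ⟨hc, hcP⟩)

/-- an odd order element of `N_G(X)` centralizing all factors of a chain centralizes `X` -/
theorem commute_of_chain (hX : IsPGroup 2 X) {y : G} {m : ℕ} (hm : Odd m) (hy : y ^ m ∈ centralizer (X : Set G))
    {A B : Subgroup G} (hAX : A ≤ X) (hBA : B ≤ A) (hA : ∀ a ∈ A, y * a * y⁻¹ * a⁻¹ ∈ B) (hB : ∀ b ∈ B, y * b * y⁻¹ = b) :
    ∀ a ∈ A, y * a * y⁻¹ = a := by
  intro a ha
  set e := y * a * y⁻¹ * a⁻¹ with he
  have h1 : y * a * y⁻¹ = e * a := by rw [he]; group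
  have h2 : ∀ k : ℕ, y ^ k * a * (y ^ k)⁻¹ = e ^ k * a := by
    intro k
    induction k with
    | zero => simp
    | succ k ih =>
      have h3 : y ^ (k + 1) * a * (y ^ (k + 1))⁻¹ = y * (y ^ k * a * (y ^ k)⁻¹) * y⁻¹ := by
        rw [pow_succ']; group
      have h4 : y * e ^ k * y⁻¹ = e ^ k := hB _ (B.pow_mem (hA a ha) k)
      rw [h3, ih]
      calc y * (e ^ k * a) * y⁻¹ = (y * e ^ k * y⁻¹) * (y * a * y⁻¹) := by simp only [mul_assoc, inv_mul_cancel_left]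
        _ = e ^ (k + 1) * a := by rw [h4, h1, pow_succ]; simp only [mul_assoc]
  have h3 := h2 m
  have h4 : y ^ m * a * (y ^ m)⁻¹ = a := by
    rw [← mem_centralizer_iff.1 hy a (hAX ha), mul_inv_cancel_right]
  rw [h4] at h3
  have h5 : e ^ m = 1 := by
    have := mul_right_cancel (b := a) (a := e ^ m) (c := 1) (by rw [one_mul]; exact h3.symm)
    exact this
  have heX : e ∈ X := hAX (hBA (hA a ha))
  obtain ⟨k, hk⟩ := hX ⟨e, heX⟩
  have hk' : e ^ 2 ^ k = 1 := by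
    have := congrArg Subtype.val hk
    simpa using this
  have hcop : Nat.Coprime m (2 ^ k) := Nat.Coprime.pow_right k (Nat.coprime_two_right.2 hm)
  have h6 : e = 1 := by
    have h7 : e ^ Nat.gcd m (2 ^ k) = 1 := pow_gcd_eq_one.2 ⟨h5, hk'⟩
    rw [Nat.Coprime.gcd_eq_one hcop, pow_one] at h7
    exact h7
  rw [h1, h6, one_mul]

/-- an element of `N_G(X)` of odd order modulo `X C_G(X)` has a power which is the same modulo `X C_G(X)` and has odd
order modulo `C_G(X)` -/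
theorem exists_power (hX : IsPGroup 2 X) {y : G} {M : ℕ} (hM : Odd M)
    (hyM : y ^ M ∈ K0 X) : ∃ j : ℕ, (y ^ j) ^ M ∈ centralizer (X : Set G) ∧ (y ^ j) * y⁻¹ ∈ K0 X := by
  -- `y ^ M = x c`
  have hn : X ≤ normalizer ((centralizer (X : Set G) : Subgroup G) : Set G) := by
    intro x hx
    rw [mem_normalizer_iff]
    intro c
    have key : ∀ (x : G), x ∈ X → ∀ c ∈ centralizer (X : Set G), x * c * x⁻¹ ∈ centralizer (X : Set G) := by
      intro x hx c hc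
      have : x * c * x⁻¹ = c := by
        rw [mem_centralizer_iff.1 hc x hx, mul_inv_cancel_right]
      rw [this]; exact hc
    refine ⟨key x hx c, fun hc => ?_⟩
    have := key x⁻¹ (inv_mem hx) _ hc
    simpa [mul_assoc] using this
  have hmem : y ^ M ∈ ((X ⊔ centralizer (X : Set G) : Subgroup G) : Set G) := hyM
  rw [coe_mul_of_left_le_normalizer_right X _ hn] at hmem
  obtain ⟨x, hx, c, hc, hxc⟩ := hmem
  have hxc' : x * c = y ^ M := hxc
  obtain ⟨k, hk⟩ := hX ⟨x, hx⟩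
  have hk' : x ^ 2 ^ k = 1 := by
    have := congrArg Subtype.val hk
    simpa using this
  have h1 : (y ^ M) ^ 2 ^ k ∈ centralizer (X : Set G) := by
    rw [← hxc', Commute.mul_pow (mem_centralizer_iff.1 hc x hx), hk', one_mul]
    exact pow_mem hc _
  -- `s` with `2^k s ≡ 1 mod M`
  have hcop : Nat.Coprime (2 ^ k) M := Nat.Coprime.pow_left k (Nat.coprime_two_left.2 hM)
  by_cases hM1 : M = 1
  · refine ⟨2 ^ k, ?_, ?_⟩
    · rw [← pow_mul, mul_comm, pow_mul]; exact h1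
    · rw [hM1, pow_one] at hyM
      exact mul_mem (pow_mem hyM _) (inv_mem hyM)
  obtain ⟨s, -, hs⟩ := Nat.exists_mul_mod_eq_one_of_coprime hcop (by
    obtain ⟨r, hr⟩ := hM; omega)
  refine ⟨2 ^ k * s, ?_, ?_⟩
  · have : (y ^ (2 ^ k * s)) ^ M = ((y ^ M) ^ 2 ^ k) ^ s := by
      rw [← pow_mul, ← pow_mul, ← pow_mul]; congr 1; ring
    rw [this]
    exact pow_mem h1 s
  · have h2 : 2 ^ k * s = M * (2 ^ k * s / M) + 1 := by
      have := Nat.div_add_mod (2 ^ k * s) M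
      rw [hs] at this
      exact this.symm
    have h3 : y ^ (2 ^ k * s) * y⁻¹ = (y ^ M) ^ (2 ^ k * s / M) := by
      conv_lhs => rw [h2]
      rw [pow_succ, pow_mul, mul_inv_cancel_right]
    rw [h3]
    exact pow_mem hyM _

/-- if `y` (of odd order modulo `X C_G(X)`) stabilizes a chain of `X`, then `y ∈ X C_G(X)` -/
theorem mem_K0_of_chain (hX : IsPGroup 2 X) {y : G} {M : ℕ} (hM : Odd M)
    (hyM : y ^ M ∈ K0 X) (D : ℕ → Subgroup G) {k : ℕ} (hD0 : D 0 = X) (hDk : D k = ⊥)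
    (hle : ∀ i, D (i + 1) ≤ D i) (hinv : ∀ i, ∀ d ∈ D i, y * d * y⁻¹ ∈ D i)
    (hch : ∀ i, ∀ d ∈ D i, y * d * y⁻¹ * d⁻¹ ∈ D (i + 1)) : y ∈ K0 X := by
  obtain ⟨j, hj1, hj2⟩ := exists_power hX hM hyM
  have hinvj : ∀ (j i : ℕ), ∀ d ∈ D i, y ^ j * d * (y ^ j)⁻¹ * d⁻¹ ∈ D (i + 1) := by
    intro j
    induction j with
    | zero => intro i d _; simp [one_mem]
    | succ j ih =>
      intro i d hd
      have h1 : y ^ (j + 1) * d * (y ^ (j + 1))⁻¹ * d⁻¹ =
          (y * (y ^ j * d * (y ^ j)⁻¹ * d⁻¹) * y⁻¹) * (y * d * y⁻¹ * d⁻¹) := by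
        rw [pow_succ']; group
      rw [h1]
      exact mul_mem (hinv _ _ (ih i d hd)) (hch i d hd)
  have hanti : ∀ i, D i ≤ X := by
    intro i
    induction i with
    | zero => rw [hD0]
    | succ i ih => exact (hle i).trans ih
  -- descending induction
  have key : ∀ n, n ≤ k → ∀ d ∈ D (k - n), y ^ j * d * (y ^ j)⁻¹ = d := by
    intro n
    induction n with
    | zero =>
      intro _ d hd
      rw [Nat.sub_zero, hDk, mem_bot] at hd
      subst hd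
      simp
    | succ n ih =>
      intro hn d hd
      have h1 : k - (n + 1) + 1 = k - n := by omega
      exact commute_of_chain hX hM hj1 (hanti _) (hle (k - (n + 1)))
        (hinvj j (k - (n + 1))) (by rw [h1]; exact ih (by omega)) d hd
  have h2 : y ^ j ∈ centralizer (X : Set G) := by
    rw [mem_centralizer_iff]
    intro d hd
    have h3 := key k le_rfl d (by rw [Nat.sub_self, hD0]; exact hd)
    exact (mul_inv_eq_iff_eq_mul.1 h3).symm
  have h4 : y = ((y ^ j) * y⁻¹)⁻¹ * y ^ j := by group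
  rw [h4]
  exact mul_mem (inv_mem hj2) (mem_sup_right h2)

variable [Finite G]

/-- (CH) a 2-element stabilizing a chain of invariant subgroups is in `X` -/
theorem mem_of_chain (hP : IsPGroup 2 P) (h : IsEss 2 P X H) (D : ℕ → Subgroup G) {k : ℕ} (hD0 : D 0 = X) (hDk : D k = ⊥)
    (hle : ∀ i, D (i + 1) ≤ D i) (hinv : ∀ n ∈ normalizer (X : Set G), ∀ i, ∀ d ∈ D i, n * d * n⁻¹ ∈ D i)
    {t : G} (htP : t ∈ P) (htN : t ∈ normalizer (X : Set G))
    (hch : ∀ i, ∀ d ∈ D i, t * d * t⁻¹ * d⁻¹ ∈ D (i + 1)) : t ∈ X := by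
  have hX : IsPGroup 2 X := hP.to_le h.lt.le
  -- the stabilizer of the chain
  let W : Subgroup G :=
    { carrier := {n | n ∈ normalizer (X : Set G) ∧ ∀ i, ∀ d ∈ D i, n * d * n⁻¹ * d⁻¹ ∈ D (i + 1)}
      one_mem' := ⟨one_mem _, fun i d _ => by simp [one_mem]⟩
      mul_mem' := by
        rintro a b ⟨ha, ha'⟩ ⟨hb, hb'⟩
        refine ⟨mul_mem ha hb, fun i d hd => ?_⟩
        have h1 : a * b * d * (a * b)⁻¹ * d⁻¹ = (a * (b * d * b⁻¹ * d⁻¹) * a⁻¹) * (a * d * a⁻¹ * d⁻¹) := by group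
        rw [h1]
        exact mul_mem (hinv a ha _ _ (hb' i d hd)) (ha' i d hd)
      inv_mem' := by
        rintro a ⟨ha, ha'⟩
        refine ⟨inv_mem ha, fun i d hd => ?_⟩
        have h1 : a⁻¹ * d * a⁻¹⁻¹ * d⁻¹ = a⁻¹ * (a * d * a⁻¹ * d⁻¹)⁻¹ * a⁻¹⁻¹ := by group
        rw [h1]
        exact hinv _ (inv_mem ha) _ _ (inv_mem (ha' i d hd)) }
  have hWn : ∀ n ∈ normalizer (X : Set G), ∀ w ∈ W, n * w * n⁻¹ ∈ W := by
    rintro n hn w ⟨hw, hw'⟩
    refine ⟨mul_mem (mul_mem hn hw) (inv_mem hn), fun i d hd => ?_⟩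
    have h1 : n * w * n⁻¹ * d * (n * w * n⁻¹)⁻¹ * d⁻¹ =
        n * (w * (n⁻¹ * d * n) * w⁻¹ * (n⁻¹ * d * n)⁻¹) * n⁻¹ := by group
    rw [h1]
    apply hinv n hn
    apply hw'
    have := hinv _ (inv_mem hn) i d hd
    simpa using this
  by_contra htX
  have htK : t ∉ K0 X := fun hh => htX (mem_of_mem_K0 h htP hh)
  -- a power of `t` is an involution modulo `K0`
  obtain ⟨b, hbP, hbW, hb1, hb2⟩ : ∃ b, b ∈ P ∧ b ∈ W ∧ b ∉ K0 X ∧ b * b ∈ K0 X := by
    obtain ⟨n, hn⟩ := hP ⟨t, htP⟩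
    have hn' : t ^ 2 ^ n = 1 := by
      have := congrArg Subtype.val hn
      simpa using this
    have hex : ∃ n, t ^ 2 ^ n ∈ K0 X := ⟨n, by rw [hn']; exact one_mem _⟩
    classical
    have h0 : Nat.find hex ≠ 0 := by
      intro h0
      have := Nat.find_spec hex
      rw [h0, pow_zero, pow_one] at this
      exact htK this
    obtain ⟨r, hr⟩ := Nat.exists_eq_succ_of_ne_zero h0
    refine ⟨t ^ 2 ^ r, pow_mem htP _, pow_mem (show t ∈ W from ⟨htN, hch⟩) _, Nat.find_min hex (by omega), ?_⟩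
    have := Nat.find_spec hex
    rw [hr, pow_succ, pow_mul, pow_two] at this
    exact this
  have hbN : b ∈ normalizer (X : Set G) := hbW.1
  have hbH : b ∈ H := h.inf_le ⟨hbP, hbN⟩
  obtain ⟨x, hx, hxH⟩ : ∃ x ∈ normalizer (X : Set G), x ∉ H := by
    by_contra hcon
    push Not at hcon
    exact h.ne (le_antisymm h.le hcon)
  have hb' : x * b * x⁻¹ ∉ H := fun hh => hb1 (h.se x hx hxH b hbH (by rw [pow_two]; exact hb2) hh)
  have hb'2 : x * b * x⁻¹ * (x * b * x⁻¹) ∈ K0 X := by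
    have := K0_conj hx hb2
    have e : x * b * x⁻¹ * (x * b * x⁻¹) = x * (b * b) * x⁻¹ := by group
    rw [e]; exact this
  set bb : ↥(normalizer (X : Set G)) := ⟨b, hbN⟩ with hbb
  set bx : ↥(normalizer (X : Set G)) := ⟨x * b * x⁻¹, mul_mem (mul_mem hx hbN) (inv_mem hx)⟩ with hbx
  have hodd := (semb h).odd_orderOf_mul (b := pr X bb) (b' := pr X bx) ((mem_map_pr h bb).2 hbH)
    (by rw [← map_mul, pr_eq_one]; exact hb2) (by rw [Ne, pr_eq_one]; exact hb1)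
    (by rw [mem_map_pr h]; exact hb') (by rw [← map_mul, pr_eq_one]; exact hb'2)
  set M := orderOf (pr X bb * pr X bx) with hMdef
  have hyM : (b * (x * b * x⁻¹)) ^ M ∈ K0 X := by
    have h1 : pr X ((bb * bx) ^ M) = 1 := by
      rw [map_pow, map_mul, hMdef, pow_orderOf_eq_one]
    rw [pr_eq_one] at h1
    simpa using h1
  have hyW : b * (x * b * x⁻¹) ∈ W := mul_mem hbW (hWn x hx b hbW)
  have hyK : b * (x * b * x⁻¹) ∈ K0 X :=
    mem_K0_of_chain hX hodd hyM D hD0 hDk hle (fun i d hd => hinv _ hyW.1 i d hd) hyW.2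
  exact hb' ((H.mul_mem_cancel_left hbH).1 (h.sup_le hyK))

/-! ### Invariant sections -/

/-- `A / A0` is an `N_G(X)`-invariant elementary abelian section of `X` centralized by `X` -/
structure Sec (X A A0 : Subgroup G) : Prop where
  le : A0 ≤ A
  leX : A ≤ X
  inv : ∀ n ∈ normalizer (X : Set G), ∀ a ∈ A, n * a * n⁻¹ ∈ A
  inv0 : ∀ n ∈ normalizer (X : Set G), ∀ a ∈ A0, n * a * n⁻¹ ∈ A0
  sq : ∀ a ∈ A, a * a ∈ A0
  cen : ∀ x ∈ X, ∀ a ∈ A, x * a * x⁻¹ * a⁻¹ ∈ A0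

variable {A A0 : Subgroup G}

omit [Finite G] in
theorem Sec.inv_iff (hs : Sec X A A0) {n : G} (hn : n ∈ normalizer (X : Set G)) {a : G} :
    n * a * n⁻¹ ∈ A ↔ a ∈ A := by
  refine ⟨fun h => ?_, hs.inv n hn a⟩
  have := hs.inv _ (inv_mem hn) _ h
  simpa [mul_assoc] using this

/-- the centralizer of the section -/
def Cs (hs : Sec X A A0) : Subgroup G where
  carrier := {n | n ∈ normalizer (X : Set G) ∧ ∀ a ∈ A, n * a * n⁻¹ * a⁻¹ ∈ A0}
  one_mem' := ⟨one_mem _, fun d _ => by simp [one_mem]⟩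
  mul_mem' := by
    rintro a b ⟨ha, ha'⟩ ⟨hb, hb'⟩
    refine ⟨mul_mem ha hb, fun d hd => ?_⟩
    have h1 : a * b * d * (a * b)⁻¹ * d⁻¹ = (a * (b * d * b⁻¹ * d⁻¹) * a⁻¹) * (a * d * a⁻¹ * d⁻¹) := by group
    rw [h1]
    exact mul_mem (hs.inv0 a ha _ (hb' d hd)) (ha' d hd)
  inv_mem' := by
    rintro a ⟨ha, ha'⟩
    refine ⟨inv_mem ha, fun d hd => ?_⟩
    have h1 : a⁻¹ * d * a⁻¹⁻¹ * d⁻¹ = a⁻¹ * (a * d * a⁻¹ * d⁻¹)⁻¹ * a⁻¹⁻¹ := by group
    rw [h1]
    exact hs.inv0 _ (inv_mem ha) _ (inv_mem (ha' d hd))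

omit [Finite G] in
theorem mem_Cs {hs : Sec X A A0} {n : G} :
    n ∈ Cs hs ↔ n ∈ normalizer (X : Set G) ∧ ∀ a ∈ A, n * a * n⁻¹ * a⁻¹ ∈ A0 := Iff.rfl

omit [Finite G] in
theorem Cs_conj (hs : Sec X A A0) {n : G} (hn : n ∈ normalizer (X : Set G)) {w : G} (hw : w ∈ Cs hs) :
    n * w * n⁻¹ ∈ Cs hs := by
  obtain ⟨hw, hw'⟩ := hw
  refine ⟨mul_mem (mul_mem hn hw) (inv_mem hn), fun d hd => ?_⟩
  have h1 : n * w * n⁻¹ * d * (n * w * n⁻¹)⁻¹ * d⁻¹ =
      n * (w * (n⁻¹ * d * n) * w⁻¹ * (n⁻¹ * d * n)⁻¹) * n⁻¹ := by group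
  rw [h1]
  apply hs.inv0 n hn
  apply hw'
  have := hs.inv _ (inv_mem hn) d hd
  simpa using this

omit [Finite G] in
theorem K0_le_Cs (hs : Sec X A A0) : K0 X ≤ Cs hs := by
  apply sup_le
  · intro x hx
    exact ⟨le_normalizer hx, fun a ha => hs.cen x hx a ha⟩
  · intro c hc
    refine ⟨centralizer_le_normalizer _ hc, fun a ha => ?_⟩
    rw [← mem_centralizer_iff.1 hc a (hs.leX ha), mul_inv_cancel_right, mul_inv_cancel]
    exact one_mem _

instance (hs : Sec X A A0) : ((Cs hs).subgroupOf (normalizer (X : Set G))).Normal where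
  conj_mem g hg n := by
    rw [mem_subgroupOf] at hg ⊢
    exact Cs_conj hs n.2 hg

/-- image of the centralizer of the section in `N_G(X) / X C_G(X)` -/
abbrev CsBar (hs : Sec X A A0) : Subgroup (↥(normalizer (X : Set G)) ⧸ K0' X) :=
  ((Cs hs).subgroupOf (normalizer (X : Set G))).map (pr X)

instance (hs : Sec X A A0) : (CsBar hs).Normal :=
  Subgroup.Normal.map inferInstance _ (QuotientGroup.mk'_surjective _)

omit [Finite G] in
theorem mem_CsBar (hs : Sec X A A0) (g : ↥(normalizer (X : Set G))) : pr X g ∈ CsBar hs ↔ (g : G) ∈ Cs hs := by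
  constructor
  · rintro ⟨k, hk, hkg⟩
    rw [SetLike.mem_coe, mem_subgroupOf] at hk
    have h1 : pr X (k⁻¹ * g) = 1 := by rw [map_mul, map_inv, hkg, inv_mul_cancel]
    rw [pr_eq_one] at h1
    have h2 := K0_le_Cs hs h1
    have := (Cs hs).mul_mem hk h2
    simpa using this
  · intro hg
    exact ⟨g, by rw [SetLike.mem_coe, mem_subgroupOf]; exact hg, rfl⟩

/-- (INV) the centralizer of the section has odd order modulo `X C_G(X)` -/
theorem odd_CsBar (h : IsEss 2 P X H) (hs : Sec X A A0) {b : G} (hbP : b ∈ P) (hbN : b ∈ normalizer (X : Set G))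
    (hbb : b * b ∈ K0 X) (hb : b ∉ Cs hs) : Odd (Nat.card (CsBar hs)) := by
  have h1 : b ∉ K0 X := fun hh => hb (K0_le_Cs hs hh)
  apply (semb h).odd_of_notMem (b := pr X ⟨b, hbN⟩)
  · rw [mem_map_pr h]; exact h.inf_le ⟨hbP, hbN⟩
  · rw [← map_mul, pr_eq_one]; exact hbb
  · rw [Ne, pr_eq_one]; exact h1
  · rw [mem_CsBar]; exact hb

/-- (INV) `C_{N_P(X)}(A / A0) = X` if some involution of `N_P(X)/X` acts non-trivially -/
theorem mem_of_mem_Cs (hP : IsPGroup 2 P) (h : IsEss 2 P X H) (hs : Sec X A A0) {b : G} (hbP : b ∈ P)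
    (hbN : b ∈ normalizer (X : Set G)) (hbb : b * b ∈ K0 X) (hb : b ∉ Cs hs) {g : G} (hgP : g ∈ P)
    (hg : g ∈ Cs hs) : g ∈ X := by
  have hodd := odd_CsBar h hs hbP hbN hbb hb
  apply mem_of_mem_K0 h hgP
  set gg : ↥(normalizer (X : Set G)) := ⟨g, hg.1⟩ with hgg
  have h1 : pr X gg ^ Nat.card (CsBar hs) = 1 := pow_card_mem ((mem_CsBar hs gg).2 hg)
  obtain ⟨n, hn⟩ := hP ⟨g, hgP⟩
  have hn' : gg ^ 2 ^ n = 1 := by
    ext
    have := congrArg Subtype.val hn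
    simpa using this
  have h2 : pr X gg ^ 2 ^ n = 1 := by rw [← map_pow, hn', map_one]
  have h3 : pr X gg ^ Nat.gcd (Nat.card (CsBar hs)) (2 ^ n) = 1 := pow_gcd_eq_one.2 ⟨h1, h2⟩
  rw [Nat.Coprime.gcd_eq_one (Nat.Coprime.pow_right n (Nat.coprime_two_right.2 hodd)), pow_one, pr_eq_one] at h3
  exact h3

/-- `H C_N(A/A0)` is a strongly embedded subgroup modulo `C_N(A/A0)` -/
def RelSE (H C X : Subgroup G) : Prop :=
  (∃ x ∈ normalizer (X : Set G), x ∉ H ⊔ C) ∧ ∀ x ∈ normalizer (X : Set G), x ∉ H ⊔ C → ∀ k ∈ H ⊔ C,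
    k * k ∈ C → x * k * x⁻¹ ∈ H ⊔ C → k ∈ C

/-- (RED) -/
theorem relSE (hP : IsPGroup 2 P) (h : IsEss 2 P X H) (hs : Sec X A A0) {b : G} (hbP : b ∈ P)
    (hbN : b ∈ normalizer (X : Set G)) (hbb : b * b ∈ K0 X) (hb : b ∉ Cs hs)
    (D : ℕ → Subgroup G) {k : ℕ} (hD0 : D 0 = X) (hDk : D k = ⊥) (hle : ∀ i, D (i + 1) ≤ D i)
    (hinv : ∀ n ∈ Cs hs, ∀ i, ∀ d ∈ D i, n * d * n⁻¹ ∈ D i)
    (hch : ∀ i, (∀ d ∈ D i, b * d * b⁻¹ * d⁻¹ ∈ D (i + 1)) ∨
      ∀ n ∈ Cs hs, ∀ d ∈ D i, n * d * n⁻¹ * d⁻¹ ∈ D (i + 1)) : RelSE H (Cs hs) X := by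
  have hX : IsPGroup 2 X := hP.to_le h.lt.le
  have hodd := odd_CsBar h hs hbP hbN hbb hb
  have hbH : b ∈ H := h.inf_le ⟨hbP, hbN⟩
  have hCN : Cs hs ≤ normalizer (X : Set G) := fun _ hg => hg.1
  have hbK : b ∉ K0 X := fun hh => hb (K0_le_Cs hs hh)
  set bb : ↥(normalizer (X : Set G)) := ⟨b, hbN⟩ with hbbdef
  have hbar2 : pr X bb * pr X bb = 1 := by rw [← map_mul, pr_eq_one]; exact hbb
  have hbar1 : pr X bb ≠ 1 := by rw [Ne, pr_eq_one]; exact hbK
  -- membership in `H ⊔ C` in the quotient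
  have hmem : ∀ g : ↥(normalizer (X : Set G)), pr X g ∈ (H.subgroupOf (normalizer (X : Set G))).map (pr X) ⊔ CsBar hs ↔
      (g : G) ∈ H ⊔ Cs hs := by
    intro g
    have e1 : (H.subgroupOf (normalizer (X : Set G))).map (pr X) ⊔ CsBar hs =
        ((H ⊔ Cs hs).subgroupOf (normalizer (X : Set G))).map (pr X) := by
      rw [← Subgroup.map_sup, ← Subgroup.subgroupOf_sup h.le hCN]
    rw [e1]
    constructor
    · rintro ⟨k, hk, hkg⟩
      rw [SetLike.mem_coe, mem_subgroupOf] at hk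
      have h1 : pr X (k⁻¹ * g) = 1 := by rw [map_mul, map_inv, hkg, inv_mul_cancel]
      rw [pr_eq_one] at h1
      have h2 := mem_sup_left (T := Cs hs) (h.sup_le h1)
      have := mul_mem hk h2
      simpa using this
    · intro hg
      exact ⟨g, by rw [SetLike.mem_coe, mem_subgroupOf]; exact hg, rfl⟩
  constructor
  · by_contra hcon
    push Not at hcon
    -- every element of `C` commutes with `b` modulo `K0`
    have key : ∀ n ∈ Cs hs, n ∈ H := by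
      intro n hn
      set nn : ↥(normalizer (X : Set G)) := ⟨n, hn.1⟩ with hnn
      have hyC : b * (n * b * n⁻¹) ∈ Cs hs := by
        have h1 : b * (n * b * n⁻¹) = (b * n * b⁻¹) * (b * b) * n⁻¹ := by group
        rw [h1]
        exact mul_mem (mul_mem (Cs_conj hs hbN hn) (K0_le_Cs hs hbb)) (inv_mem hn)
      set yy : ↥(normalizer (X : Set G)) := bb * (nn * bb * nn⁻¹) with hyy
      have hyy' : (yy : G) = b * (n * b * n⁻¹) := rfl
      have h1 : pr X yy ^ Nat.card (CsBar hs) = 1 := pow_card_mem ((mem_CsBar hs yy).2 hyC)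
      rw [← map_pow, pr_eq_one] at h1
      have hyK : (yy : G) ∈ K0 X := by
        refine mem_K0_of_chain hX hodd (by simpa using h1) D hD0 hDk hle
          (fun i d hd => hinv _ hyC i d hd) ?_
        intro i d hd
        rcases hch i with h2 | h2
        · rw [hyy']
          have h3 : n * b * n⁻¹ * d * (n * b * n⁻¹)⁻¹ * d⁻¹ ∈ D (i + 1) := by
            have e : n * b * n⁻¹ * d * (n * b * n⁻¹)⁻¹ * d⁻¹ =
                n * (b * (n⁻¹ * d * n) * b⁻¹ * (n⁻¹ * d * n)⁻¹) * n⁻¹ := by group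
            rw [e]
            apply hinv n hn
            apply h2
            have := hinv _ (inv_mem hn) i d hd
            simpa using this
          have e2 : b * (n * b * n⁻¹) * d * (b * (n * b * n⁻¹))⁻¹ * d⁻¹ =
              (b * (n * b * n⁻¹ * d * (n * b * n⁻¹)⁻¹ * d⁻¹) * b⁻¹ *
                (n * b * n⁻¹ * d * (n * b * n⁻¹)⁻¹ * d⁻¹)⁻¹) *
              (n * b * n⁻¹ * d * (n * b * n⁻¹)⁻¹ * d⁻¹) * (b * d * b⁻¹ * d⁻¹) := by group
          rw [e2]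
          exact mul_mem (mul_mem (h2 _ (hle i h3)) h3) (h2 d hd)
        · exact h2 _ hyC d hd
      rw [← pr_eq_one, hyy, map_mul, map_mul, map_mul, map_inv] at hyK
      have hcomm : pr X nn * pr X bb = pr X bb * pr X nn := by
        have h4 := eq_inv_of_mul_eq_one_right hyK
        rw [inv_eq_of_mul_eq_one_left hbar2] at h4
        rw [mul_inv_eq_iff_eq_mul] at h4
        exact h4
      exact (mem_map_pr h nn).1 ((semb h).mem_of_commute ((mem_map_pr h bb).2 hbH) hbar2 hbar1 hcomm)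
    apply h.ne
    apply le_antisymm h.le
    intro x hx
    have h5 := hcon x hx
    rwa [sup_eq_left.2 key] at h5
  · intro x hx hxH k hk hkk hxk
    have hkN : k ∈ normalizer (X : Set G) := sup_le h.le hCN hk
    have h1 := (semb h).quotient_odd hodd (x := pr X ⟨x, hx⟩) (by rw [hmem]; exact hxH)
      (h := pr X ⟨k, hkN⟩) ((hmem _).2 hk) (by rw [← map_mul, mem_CsBar]; exact hkk)
      (by rw [← map_mul, ← map_inv, ← map_mul, hmem]; exact hxk)
    rwa [mem_CsBar] at h1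

/-! ### Lemma (SE) for sections -/

section Main

variable (hs : Sec X A A0)

/-- `A0` in `N_G(X)` -/
abbrev A0' (X A0 : Subgroup G) : Subgroup ↥(normalizer (X : Set G)) := A0.subgroupOf _

omit [Finite G] in
theorem normal_A0' (hs : Sec X A A0) : (A0' X A0).Normal where
  conj_mem g hg n := by
    rw [mem_subgroupOf] at hg ⊢
    exact hs.inv0 n n.2 _ hg

omit [Finite G] in
theorem Sec.leN (hs : Sec X A A0) : A ≤ normalizer (X : Set G) := hs.leX.trans le_normalizer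

/-- the section as a subgroup of `N_G(X) / A0` -/
def US (hs : Sec X A A0) : letI := normal_A0' hs; Subgroup (↥(normalizer (X : Set G)) ⧸ A0' X A0) :=
  letI := normal_A0' hs
  (A.subgroupOf (normalizer (X : Set G))).map (QuotientGroup.mk' (A0' X A0))

omit [Finite G] in
theorem normal_US (hs : Sec X A A0) : letI := normal_A0' hs; (US hs).Normal := by
  let _ := normal_A0' hs
  have : (A.subgroupOf (normalizer (X : Set G))).Normal := ⟨fun g hg n => by
    rw [mem_subgroupOf] at hg ⊢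
    exact hs.inv n n.2 _ hg⟩
  exact Subgroup.Normal.map this _ (QuotientGroup.mk'_surjective _)

/-- The data of the section as an abstract elementary abelian group with action of `N_G(X)`. -/
theorem exists_action (hs : Sec X A A0) : ∃ (U : Type u) (_ : Group U) (_ : Finite U)
    (ρ : ↥(normalizer (X : Set G)) →* MulAut U) (q : ↥A →* U),
    (∀ u : U, u * u = 1) ∧ Function.Surjective q ∧ (∀ a : A, q a = 1 ↔ (a : G) ∈ A0) ∧
    (∀ (n : ↥(normalizer (X : Set G))) (a : A), ρ n (q a) = q ⟨n * a * n⁻¹, hs.inv n n.2 a a.2⟩) := by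
  let _ := normal_A0' hs
  let _ := normal_US hs
  have hfin : Finite (↥(normalizer (X : Set G)) ⧸ A0' X A0) := inferInstance
  let mk := QuotientGroup.mk' (A0' X A0)
  let q : ↥A →* ↥(US hs) :=
    { toFun := fun a => ⟨mk ⟨a, hs.leN a.2⟩, ⟨⟨a, hs.leN a.2⟩, by rw [SetLike.mem_coe, mem_subgroupOf]; exact a.2, rfl⟩⟩
      map_one' := rfl
      map_mul' := fun a b => rfl }
  refine ⟨↥(US hs), inferInstance, inferInstance, (MulAut.conjNormal (H := US hs)).comp mk, q, ?_, ?_, ?_, ?_⟩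
  · rintro ⟨_, a, ha, rfl⟩
    rw [SetLike.mem_coe, mem_subgroupOf] at ha
    ext
    show mk a * mk a = 1
    rw [← map_mul, QuotientGroup.mk'_apply, QuotientGroup.eq_one_iff, mem_subgroupOf]
    exact hs.sq _ ha
  · rintro ⟨_, a, ha, rfl⟩
    rw [SetLike.mem_coe, mem_subgroupOf] at ha
    exact ⟨⟨a, ha⟩, rfl⟩
  · intro a
    rw [Subtype.ext_iff]
    show mk ⟨a, hs.leN a.2⟩ = 1 ↔ _
    rw [QuotientGroup.mk'_apply, QuotientGroup.eq_one_iff, mem_subgroupOf]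
  · intro n a
    ext
    rfl

/-- **Lemma (SE)** for sections. -/
theorem sec_se (h : IsEss 2 P X H) (hs : Sec X A A0) (hrel : RelSE H (Cs hs) X)
    {T : Subgroup G} (hTP : T ≤ P) (hTN : T ≤ normalizer (X : Set G)) {Z1 C1 : Subgroup G} (hA0Z : A0 ≤ Z1)
    (hC1 : ∀ a, a ∈ C1 ↔ a ∈ A ∧ ∀ t ∈ T, t * a * t⁻¹ * a⁻¹ ∈ A0) (hZC : Z1 ≤ C1)
    (hq : ∀ t ∈ T, ∀ a ∈ A, t * a * t⁻¹ * a⁻¹ ∈ Z1)
    (hsurj : ∀ a ∈ A, a ∉ C1 → ∀ z ∈ Z1, ∃ t ∈ T, t * a * t⁻¹ * a⁻¹ * z⁻¹ ∈ A0) (hne : ∃ a ∈ A, a ∉ C1)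
    {x : G} (hx : x ∈ normalizer (X : Set G)) (hxH : x ∉ H ⊔ Cs hs) :
    (∀ z ∈ Z1, (∀ t ∈ T, x * t * x⁻¹ * z * (x * t * x⁻¹)⁻¹ * z⁻¹ ∈ A0) → z ∈ A0) ∧
    (∀ z ∈ Z1, x * z * x⁻¹ ∈ C1 → z ∈ A0) ∧
    (∀ z ∈ Z1, z ∉ A0 → ∀ t ∈ T, t * (x * z * x⁻¹) * t⁻¹ * (x * z * x⁻¹)⁻¹ ∈ A0 → t ∈ Cs hs) ∧
    (T ⊓ Cs hs).relIndex T = A0.relIndex Z1 ∧ A0.relIndex Z1 * A0.relIndex C1 ≤ A0.relIndex A := by
  obtain ⟨U, hUg, hUf, ρ, q, hU, hqs, hq1, hρ⟩ := exists_action hs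
  have hC1A : C1 ≤ A := fun a ha => ((hC1 a).1 ha).1
  have hZA : Z1 ≤ A := hZC.trans hC1A
  have hinv := inv_of_sq hU
  -- `ρ n (q a) * q a = q [n, a]`
  have hcomm : ∀ (n : ↥(normalizer (X : Set G))) (a : A),
      ρ n (q a) * q a = q (⟨n * a * n⁻¹, hs.inv n n.2 a a.2⟩ * a⁻¹) := by
    intro n a
    rw [map_mul, map_inv, hinv (q a), hρ]
  have hfix : ∀ (n : ↥(normalizer (X : Set G))) (a : A), ρ n (q a) = q a ↔ (n : G) * a * n⁻¹ * a⁻¹ ∈ A0 := by
    intro n a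
    have h1 : ρ n (q a) = q a ↔ ρ n (q a) * q a = 1 := by
      rw [mul_eq_one_iff_eq_inv, hinv]
    rw [h1, hcomm, hq1]
    rfl
  have hker : ∀ n : ↥(normalizer (X : Set G)), ρ n = 1 ↔ (n : G) ∈ Cs hs := by
    intro n
    rw [mem_Cs]
    constructor
    · intro h1
      refine ⟨n.2, fun a ha => (hfix n ⟨a, ha⟩).1 (by rw [h1]; rfl)⟩
    · rintro ⟨-, h1⟩
      ext u
      obtain ⟨a, rfl⟩ := hqs u
      exact (hfix n a).2 (h1 a a.2)
  let H1 : Subgroup ↥(normalizer (X : Set G)) := (H ⊔ Cs hs).subgroupOf _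
  let B : Subgroup ↥(normalizer (X : Set G)) := T.subgroupOf _
  let Z' : Subgroup U := (Z1.subgroupOf A).map q
  let C' : Subgroup U := (C1.subgroupOf A).map q
  have hZ' : ∀ a : A, q a ∈ Z' ↔ (a : G) ∈ Z1 := by
    intro a
    constructor
    · rintro ⟨z, hz, he⟩
      have h1 : q (z⁻¹ * a) = 1 := by rw [map_mul, map_inv, he, inv_mul_cancel]
      rw [hq1] at h1
      have hz' : (z : G) ∈ Z1 := hz
      have := mul_mem hz' (hA0Z h1)
      simpa using this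
    · intro ha
      exact ⟨a, ha, rfl⟩
  have hA0C : A0 ≤ C1 := hA0Z.trans hZC
  have hC' : ∀ a : A, q a ∈ C' ↔ (a : G) ∈ C1 := by
    intro a
    constructor
    · rintro ⟨z, hz, he⟩
      have h1 : q (z⁻¹ * a) = 1 := by rw [map_mul, map_inv, he, inv_mul_cancel]
      rw [hq1] at h1
      have hz' : (z : G) ∈ C1 := hz
      have := mul_mem hz' (hA0C h1)
      simpa using this
    · intro ha
      exact ⟨a, ha, rfl⟩
  have e1 : ρ.ker ≤ H1 := by
    intro n hn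
    rw [MonoidHom.mem_ker, hker] at hn
    exact mem_sup_right hn
  have e2 : ∀ x ∉ H1, ∀ k ∈ H1, ρ (k * k) = 1 → x * k * x⁻¹ ∈ H1 → ρ k = 1 := by
    intro x hx k hk hkk hxk
    rw [hker] at hkk ⊢
    exact hrel.2 x x.2 hx k hk hkk hxk
  have e3 : B ≤ H1 := by
    intro b hb
    exact mem_sup_left (h.inf_le ⟨hTP hb, b.2⟩)
  have e4 : ∀ v, v ∈ C' ↔ ∀ b ∈ B, ρ b v = v := by
    intro v
    obtain ⟨a, rfl⟩ := hqs v
    rw [hC', hC1]
    constructor
    · rintro ⟨_, h1⟩ b hb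
      exact (hfix b a).2 (h1 b hb)
    · intro h1
      exact ⟨a.2, fun t ht => (hfix ⟨t, hTN ht⟩ a).1 (h1 ⟨t, hTN ht⟩ ht)⟩
  have e5 : Z' ≤ C' := by
    rintro _ ⟨z, hz, rfl⟩
    exact ⟨z, hZC hz, rfl⟩
  have e6 : ∀ b ∈ B, ∀ v, ρ b v * v ∈ Z' := by
    intro b hb v
    obtain ⟨a, rfl⟩ := hqs v
    rw [hcomm, hZ']
    exact hq b hb a a.2
  have e7 : ∀ v ∉ C', ∀ z ∈ Z', ∃ b ∈ B, ρ b v * v = z := by
    intro v hv z hz
    obtain ⟨a, rfl⟩ := hqs v
    obtain ⟨z, hz, rfl⟩ := hz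
    rw [hC'] at hv
    obtain ⟨t, ht, h1⟩ := hsurj a a.2 hv z hz
    refine ⟨⟨t, hTN ht⟩, ht, ?_⟩
    rw [hcomm]
    have h2 : q (⟨t * a * t⁻¹, hs.inv t (hTN ht) a a.2⟩ * a⁻¹ * z⁻¹) = 1 := by
      rw [hq1]; exact h1
    rw [map_mul, map_inv q z, mul_inv_eq_one] at h2
    exact h2
  have e8 : C' ≠ ⊤ := by
    obtain ⟨a, ha, haC⟩ := hne
    intro htop
    apply haC
    have := (hC' ⟨a, ha⟩).1 (by rw [htop]; exact mem_top _)
    exact this
  have e9 : (⟨x, hx⟩ : ↥(normalizer (X : Set G))) ∉ H1 := hxH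
  have hcardq : ∀ W : Subgroup G, W ≤ A → Nat.card ((W.subgroupOf A).map q) = A0.relIndex W := by
    intro W hW
    have h1 : (q.comp (inclusion hW)).ker = A0.subgroupOf W := by
      ext w
      rw [MonoidHom.mem_ker, mem_subgroupOf]
      exact hq1 _
    have h2 : (q.comp (inclusion hW)).range = (W.subgroupOf A).map q := by
      ext u
      constructor
      · rintro ⟨w, rfl⟩
        exact ⟨inclusion hW w, w.2, rfl⟩
      · rintro ⟨a, ha, rfl⟩
        exact ⟨⟨a, ha⟩, rfl⟩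
    rw [← h2, ← index_ker, h1]
    rfl
  have hcardT : Nat.card (B.map ρ) = (T ⊓ Cs hs).relIndex T := by
    have h1 : (ρ.comp (inclusion hTN)).ker = (T ⊓ Cs hs).subgroupOf T := by
      ext w
      rw [MonoidHom.mem_ker, mem_subgroupOf, mem_inf]
      constructor
      · intro hw
        exact ⟨w.2, (hker _).1 hw⟩
      · intro hw
        exact (hker _).2 hw.2
    have h2 : (ρ.comp (inclusion hTN)).range = B.map ρ := by
      ext u
      constructor
      · rintro ⟨w, rfl⟩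
        exact ⟨inclusion hTN w, w.2, rfl⟩
      · rintro ⟨a, ha, rfl⟩
        exact ⟨⟨a, ha⟩, rfl⟩
    rw [← h2, ← index_ker, h1]
    rfl
  obtain ⟨m1, m2, m3⟩ := se_main hU ρ e1 e2 e3 e4 e5 e6 e7 e8 e9
  obtain ⟨m4, m5⟩ := se_card hU ρ e1 e2 e3 e4 e5 e6 e7 e8 e9
  refine ⟨?_, ?_, ?_, ?_, ?_⟩
  · intro z hz hzt
    rw [← hq1 ⟨z, hZA hz⟩]
    apply m1 _ ((hZ' _).2 hz)
    intro b hb
    rw [hfix]
    exact hzt b hb
  · intro z hz hzC
    rw [← hq1 ⟨z, hZA hz⟩]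
    apply m2 _ ((hZ' _).2 hz)
    rw [hρ, hC']
    exact hzC
  · intro z hz hz0 t ht htz
    rw [← hker ⟨t, hTN ht⟩]
    apply m3 (q ⟨z, hZA hz⟩) ((hZ' _).2 hz) (by rw [Ne, hq1]; exact hz0) _ ht
    rw [hρ, hfix]
    exact htz
  · -- cardinalities
    rw [← hcardq Z1 hZA, ← m4, ← hcardT]
  · rw [← hcardq Z1 hZA, ← hcardq C1 hC1A, ← hcardq A le_rfl]
    have h1 : (A.subgroupOf A).map q = ⊤ := by
      rw [subgroupOf_self, ← MonoidHom.range_eq_map, MonoidHom.range_eq_top.2 hqs]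
    rw [h1, card_top]
    exact m5

/-- **Lemma (GP)** for sections: `v = [x t' x⁻¹, w]` centralized by `t` is of the form `[t, w']`. -/
theorem sec_gp (h : IsEss 2 P X H) (hs : Sec X A A0) (hrel : RelSE H (Cs hs) X)
    {x : G} (hx : x ∈ normalizer (X : Set G)) (hxH : x ∉ H ⊔ Cs hs) {t t' : G} (htP : t ∈ P)
    (htN : t ∈ normalizer (X : Set G)) (htt : t * t ∈ Cs hs) (ht : t ∉ Cs hs) (htP' : t' ∈ P)
    (htN' : t' ∈ normalizer (X : Set G)) (htt' : t' * t' ∈ Cs hs) (ht' : t' ∉ Cs hs) {v w : G} (hv : v ∈ A) (hw : w ∈ A)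
    (hvw : x * t' * x⁻¹ * w * (x * t' * x⁻¹)⁻¹ * w⁻¹ * v⁻¹ ∈ A0) (htv : t * v * t⁻¹ * v⁻¹ ∈ A0) :
    ∃ w' ∈ A, t * w' * t⁻¹ * w'⁻¹ * v⁻¹ ∈ A0 := by
  obtain ⟨U, hUg, hUf, ρ, q, hU, hqs, hq1, hρ⟩ := exists_action hs
  have hinv := inv_of_sq hU
  have hmulaut : Finite (MulAut U) := inferInstance
  have hcomm : ∀ (n : ↥(normalizer (X : Set G))) (a : A),
      ρ n (q a) * q a = q (⟨n * a * n⁻¹, hs.inv n n.2 a a.2⟩ * a⁻¹) := by
    intro n a
    rw [map_mul, map_inv, hinv (q a), hρ]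
  have hfix : ∀ (n : ↥(normalizer (X : Set G))) (a : A), ρ n (q a) = q a ↔ (n : G) * a * n⁻¹ * a⁻¹ ∈ A0 := by
    intro n a
    have h1 : ρ n (q a) = q a ↔ ρ n (q a) * q a = 1 := by
      rw [mul_eq_one_iff_eq_inv, hinv]
    rw [h1, hcomm, hq1]
    rfl
  have hker : ∀ n : ↥(normalizer (X : Set G)), ρ n = 1 ↔ (n : G) ∈ Cs hs := by
    intro n
    rw [mem_Cs]
    constructor
    · intro h1
      refine ⟨n.2, fun a ha => (hfix n ⟨a, ha⟩).1 (by rw [h1]; rfl)⟩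
    · rintro ⟨-, h1⟩
      ext u
      obtain ⟨a, rfl⟩ := hqs u
      exact (hfix n a).2 (h1 a a.2)
  let H1 : Subgroup ↥(normalizer (X : Set G)) := (H ⊔ Cs hs).subgroupOf _
  have e1 : ρ.ker ≤ H1 := by
    intro n hn
    rw [MonoidHom.mem_ker, hker] at hn
    exact mem_sup_right hn
  have e2 : ∀ x ∉ H1, ∀ k ∈ H1, ρ (k * k) = 1 → x * k * x⁻¹ ∈ H1 → ρ k = 1 := by
    intro x hx k hk hkk hxk
    rw [hker] at hkk ⊢
    exact hrel.2 x x.2 hx k hk hkk hxk
  set T : ↥(normalizer (X : Set G)) := ⟨t, htN⟩ with hT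
  set T' : ↥(normalizer (X : Set G)) := ⟨t', htN'⟩ with hT'
  set xx : ↥(normalizer (X : Set G)) := ⟨x, hx⟩ with hxx
  have f1 : T ∈ H1 := mem_sup_left (h.inf_le ⟨htP, htN⟩)
  have f1' : T' ∈ H1 := mem_sup_left (h.inf_le ⟨htP', htN'⟩)
  have f2 : ρ (T * T) = 1 := (hker _).2 htt
  have f2' : ρ (T' * T') = 1 := (hker _).2 htt'
  have f3 : ρ T ≠ 1 := fun hh => ht ((hker _).1 hh)
  have f3' : ρ T' ≠ 1 := fun hh => ht' ((hker _).1 hh)
  have f4 : xx * T' * xx⁻¹ ∉ H1 := fun hh => f3' (e2 xx hxH T' f1' f2' hh)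
  have f5 : ρ (xx * T' * xx⁻¹ * (xx * T' * xx⁻¹)) = 1 := by
    have : xx * T' * xx⁻¹ * (xx * T' * xx⁻¹) = xx * (T' * T') * xx⁻¹ := by group
    rw [this, map_mul, map_mul, f2', mul_one, ← map_mul, mul_inv_cancel, map_one]
  obtain ⟨m, hm, hbb⟩ := exists_odd ρ e1 e2 f1 f2 f3 f4 f5
  have g1 : q ⟨v, hv⟩ = q ⟨w, hw⟩ * ρ (xx * T' * xx⁻¹) (q ⟨w, hw⟩) := by
    have h1 := hcomm (xx * T' * xx⁻¹) ⟨w, hw⟩
    rw [comm_of_sq hU (q ⟨w, hw⟩), h1]
    have h2 : q ((⟨(xx * T' * xx⁻¹ : ↥(normalizer (X : Set G))) * w * ((xx * T' * xx⁻¹ : ↥(normalizer (X : Set G))) : G)⁻¹,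
      hs.inv _ (xx * T' * xx⁻¹).2 w hw⟩ : A) * (⟨w, hw⟩ : A)⁻¹ * (⟨v, hv⟩ : A)⁻¹) = 1 := by
      rw [hq1]; exact hvw
    rw [map_mul, map_inv q ⟨v, hv⟩, mul_inv_eq_one] at h2
    exact h2.symm
  have g2 : ρ T (q ⟨v, hv⟩) = q ⟨v, hv⟩ := (hfix T ⟨v, hv⟩).2 htv
  rw [g1] at g2
  obtain ⟨w', hw'⟩ := gp hU (b := ρ T) (b' := ρ (xx * T' * xx⁻¹)) (by rw [← map_mul]; exact f2)
    (by rw [← map_mul]; exact f5) hm hbb g2
  obtain ⟨w', rfl⟩ := hqs w'
  refine ⟨w', w'.2, ?_⟩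
  rw [← g1, comm_of_sq hU (q w'), hcomm] at hw'
  have h3 : q (⟨(T : G) * w' * ((T⁻¹ : ↥(normalizer (X : Set G))) : G), hs.inv T T.2 w' w'.2⟩ * w'⁻¹ *
      (⟨v, hv⟩ : A)⁻¹) = 1 := by
    rw [map_mul q _ (⟨v, hv⟩ : A)⁻¹, map_inv q ⟨v, hv⟩, mul_inv_eq_one]
    exact hw'.symm
  rw [hq1] at h3
  exact h3

end Main

/-! ### The subgroup `Ω₁(Z(X))` -/

/-- `Ω₁(Z(X))` -/
def omegaZ (X : Subgroup G) : Subgroup G where
  carrier := {v | v ∈ X ∧ v ∈ centralizer (X : Set G) ∧ v * v = 1}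
  one_mem' := ⟨one_mem _, one_mem _, mul_one 1⟩
  mul_mem' := by
    rintro a b ⟨ha, ha', ha2⟩ ⟨hb, hb', hb2⟩
    refine ⟨mul_mem ha hb, mul_mem ha' hb', ?_⟩
    have h1 : a * b = b * a := (mem_centralizer_iff.1 ha' b hb).symm
    calc a * b * (a * b) = a * (b * a) * b := by group
      _ = (a * a) * (b * b) := by rw [← h1]; group
      _ = 1 := by rw [ha2, hb2, mul_one]
  inv_mem' := by
    rintro a ⟨ha, ha', ha2⟩
    refine ⟨inv_mem ha, inv_mem ha', ?_⟩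
    rw [← mul_inv_rev, ha2, inv_one]

omit [Finite G] in
theorem mem_omegaZ {v : G} : v ∈ omegaZ X ↔ v ∈ X ∧ v ∈ centralizer (X : Set G) ∧ v * v = 1 := Iff.rfl

omit [Finite G] in
theorem omegaZ_conj {n : G} (hn : n ∈ normalizer (X : Set G)) {v : G} (hv : v ∈ omegaZ X) :
    n * v * n⁻¹ ∈ omegaZ X := by
  obtain ⟨h1, h2, h3⟩ := hv
  refine ⟨(mem_normalizer_iff.1 hn v).1 h1, ?_, ?_⟩
  · rw [mem_centralizer_iff]
    intro x hx
    have h4 : n⁻¹ * x * n ∈ X := by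
      have := (mem_normalizer_iff.1 (inv_mem hn) x).1 hx
      simpa using this
    have h5 := mem_centralizer_iff.1 h2 _ h4
    calc x * (n * v * n⁻¹) = n * (n⁻¹ * x * n * v) * n⁻¹ := by group
      _ = n * (v * (n⁻¹ * x * n)) * n⁻¹ := by rw [h5]
      _ = n * v * n⁻¹ * x := by group
  · calc n * v * n⁻¹ * (n * v * n⁻¹) = n * (v * v) * n⁻¹ := by group
      _ = 1 := by rw [h3]; group

omit [Finite G] in
theorem sec_omegaZ (X : Subgroup G) : Sec X (omegaZ X) ⊥ where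
  le := bot_le
  leX := fun _ h => h.1
  inv := fun _ hn _ ha => omegaZ_conj hn ha
  inv0 := fun n _ a ha => by rw [mem_bot] at ha ⊢; rw [ha]; group
  sq := fun a ha => by rw [mem_bot]; exact ha.2.2
  cen := fun x hx a ha => by
    rw [mem_bot, mem_centralizer_iff.1 ha.2.1 x hx]; group

omit [Finite G] in
/-- a subgroup `Y` of `P` containing `X`, with `Y ∩ N_G(X) ≤ X`, is `X` -/
theorem eq_of_inf_normalizer_le [Finite G] (hP : IsPGroup 2 P) {Y : Subgroup G} (hXY : X ≤ Y) (hYP : Y ≤ P)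
    (hY : Y ⊓ normalizer (X : Set G) ≤ X) : Y = X := by
  by_contra hne
  have hlt : X < Y := lt_of_le_of_ne hXY (Ne.symm hne)
  have h1 : IsPGroup 2 Y := hP.to_le hYP
  have : Fact (Nat.Prime 2) := ⟨Nat.prime_two⟩
  have hnil : Group.IsNilpotent Y := h1.isNilpotent
  have hnc := Group.normalizerCondition_of_isNilpotent (G := Y)
  have hlt' : X.subgroupOf Y < ⊤ := by
    refine lt_of_le_of_ne le_top fun h2 => ?_
    rw [subgroupOf_eq_top] at h2
    exact hlt.not_ge h2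
  obtain ⟨y, hy, hyX⟩ := SetLike.exists_of_lt (hnc _ hlt')
  apply hyX
  rw [mem_subgroupOf]
  apply hY
  refine ⟨y.2, ?_⟩
  rw [mem_normalizer_iff] at hy
  refine mem_normalizer_iff.2 fun g => ?_
  constructor
  · intro hg
    have := (hy ⟨g, hXY hg⟩).1 hg
    exact this
  · intro hg
    have hgY : g ∈ Y := by
      have h2 := hXY hg
      have h3 : g = (y : G)⁻¹ * (y * g * (y : G)⁻¹) * y := by group
      rw [h3]
      exact mul_mem (mul_mem (inv_mem y.2) h2) y.2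
    exact (hy ⟨g, hgY⟩).2 hg

/-- `C_P(V) = X` for `V = Ω₁(Z(X))` if some involution of `N_P(X)/X` does not centralize `V` -/
theorem centralizer_omegaZ (hP : IsPGroup 2 P) (h : IsEss 2 P X H) {b : G} (hbP : b ∈ P)
    (hbN : b ∈ normalizer (X : Set G)) (hbb : b * b ∈ K0 X) {v : G} (hv : v ∈ omegaZ X) (hbv : b * v ≠ v * b) :
    P ⊓ centralizer (omegaZ X : Set G) = X := by
  have hb : b ∉ Cs (sec_omegaZ X) := by
    intro hb
    have := hb.2 v hv
    rw [mem_bot] at this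
    exact hbv (mul_inv_eq_iff_eq_mul.1 (mul_inv_eq_one.1 this))
  apply eq_of_inf_normalizer_le hP
  · intro x hx
    refine ⟨h.lt.le hx, mem_centralizer_iff.2 fun v hv => ?_⟩
    exact (mem_centralizer_iff.1 hv.2.1 x hx).symm
  · exact inf_le_left
  · rintro g ⟨⟨hgP, hgC⟩, hgN⟩
    apply mem_of_mem_Cs hP h (sec_omegaZ X) hbP hbN hbb hb hgP
    refine ⟨hgN, fun a ha => ?_⟩
    rw [mem_bot, ← mem_centralizer_iff.1 hgC a ha]
    group

end Cfsg.Agent.Hex.SE
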