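import Mathlib

/-!
# Strongly embedded subgroups acting on an elementary abelian 2-group (abstract part)

`SEmb H`: `H` is a proper subgroup and no involution of `H` is conjugate into `H` by an element outside `H`.
All statements are elementary: no classification of groups with a strongly embedded subgroup is used.
-/

set_option autoImplicit false

namespace Cfsg.Agent.Hex.SEAbs

open Subgroup

/-! ### Strongly embedded subgroups -/

section SE

variable {Γ : Type*} [Group Γ]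

/-- a strongly embedded subgroup (the order of `H` may be odd) -/
def SEmb (H : Subgroup Γ) : Prop :=
  H ≠ ⊤ ∧ ∀ x ∉ H, ∀ h ∈ H, h * h = 1 → x * h * x⁻¹ ∈ H → h = 1

theorem SEmb.mem_of_commute {H : Subgroup Γ} (hH : SEmb H) {b x : Γ} (hb : b ∈ H) (hbb : b * b = 1) (hb1 : b ≠ 1)
    (hx : x * b = b * x) : x ∈ H := by
  by_contra hxH
  apply hb1
  apply hH.2 x hxH b hb hbb
  rw [hx, mul_inv_cancel_right]
  exact hb

theorem SEmb.exists_notMem {H : Subgroup Γ} (hH : SEmb H) : ∃ x, x ∉ H := by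
  by_contra hcon
  push Not at hcon
  exact hH.1 (eq_top_iff.2 fun x _ => hcon x)

/-- `b (b b')^k b = (b b')^(-k)` -/
theorem inv_conj_pow {b b' : Γ} (hb : b * b = 1) (hb' : b' * b' = 1) (k : ℕ) :
    b * (b * b') ^ k * b = ((b * b') ^ k)⁻¹ := by
  have h1 : b⁻¹ = b := inv_eq_of_mul_eq_one_left hb
  have h1' : b'⁻¹ = b' := inv_eq_of_mul_eq_one_left hb'
  have h2 : b * (b * b') * b⁻¹ = (b * b')⁻¹ := by
    rw [mul_inv_rev, h1, h1', ← mul_assoc, hb, one_mul]
  have h3 := congrArg (· ^ k) h2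
  simp only [conj_pow, inv_pow] at h3
  rw [h1] at h3
  exact h3

theorem inv_conj_pow' {b b' : Γ} (hb : b * b = 1) (hb' : b' * b' = 1) (k : ℕ) :
    b' * (b * b') ^ k * b' = ((b * b') ^ k)⁻¹ := by
  have h1 : b⁻¹ = b := inv_eq_of_mul_eq_one_left hb
  have h1' : b'⁻¹ = b' := inv_eq_of_mul_eq_one_left hb'
  have h2 : b' * (b * b') * b'⁻¹ = (b * b')⁻¹ := by
    rw [mul_inv_rev, h1, h1', ← mul_assoc, mul_assoc (b' * b), hb', mul_one]
  have h3 := congrArg (· ^ k) h2
  simp only [conj_pow, inv_pow] at h3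
  rw [h1'] at h3
  exact h3

variable [Finite Γ]

theorem SEmb.odd_orderOf_mul {H : Subgroup Γ} (hH : SEmb H) {b b' : Γ} (hb : b ∈ H) (hbb : b * b = 1) (hb1 : b ≠ 1)
    (hb' : b' ∉ H) (hbb' : b' * b' = 1) : Odd (orderOf (b * b')) := by
  by_contra hodd
  rw [Nat.not_odd_iff_even] at hodd
  obtain ⟨k, hk⟩ := hodd
  set y := b * b' with hy
  have hpos : 0 < orderOf y := orderOf_pos y
  have hk0 : k ≠ 0 := by omega
  set j := y ^ k with hj
  have hjj : j * j = 1 := by rw [hj, ← pow_add, ← hk, pow_orderOf_eq_one]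
  have hj1 : j ≠ 1 := by
    intro h
    have := orderOf_dvd_of_pow_eq_one h
    have := Nat.le_of_dvd (by omega) this
    omega
  have hjinv : j⁻¹ = j := inv_eq_of_mul_eq_one_left hjj
  have h1 : b * j * b = j := by rw [hj, hy, inv_conj_pow hbb hbb', ← hy, ← hj, hjinv]
  have h2 : b' * j * b' = j := by rw [hj, hy, inv_conj_pow' hbb hbb', ← hy, ← hj, hjinv]
  have hjH : j ∈ H := by
    apply hH.mem_of_commute hb hbb hb1
    have := congrArg (b * ·) h1
    simp only [← mul_assoc, hbb, one_mul] at this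
    exact this
  apply hb'
  apply hH.mem_of_commute hjH hjj hj1
  have := congrArg (· * b') h2
  simp only [mul_assoc, hbb', mul_one] at this
  rw [← this]

omit [Finite Γ] in
/-- two involutions with product of odd order are conjugate in the group they generate -/
theorem exists_conj_of_odd {b b' : Γ} (hbb : b * b = 1) (hbb' : b' * b' = 1) {m : ℕ} (hm : Odd m)
    (hy : (b * b') ^ m = 1) : ∃ r : ℕ, (b * b') ^ r * b' * ((b * b') ^ r)⁻¹ = b := by
  obtain ⟨r, hr⟩ := hm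
  refine ⟨r + 1, ?_⟩
  have h1 : b⁻¹ = b := inv_eq_of_mul_eq_one_left hbb
  have h2 : b * (b * b') ^ r * b = ((b * b') ^ r)⁻¹ := inv_conj_pow hbb hbb' r
  have h3 : ((b * b') ^ (r + 1))⁻¹ = (b * b')⁻¹ * ((b * b') ^ r)⁻¹ := by
    rw [pow_succ, mul_inv_rev]
  have h4 : b' * (b * b')⁻¹ = b := by
    rw [mul_inv_rev, h1, ← mul_assoc, mul_inv_cancel, one_mul]
  calc (b * b') ^ (r + 1) * b' * ((b * b') ^ (r + 1))⁻¹
      = (b * b') ^ (r + 1) * (b' * (b * b')⁻¹) * ((b * b') ^ r)⁻¹ := by rw [h3]; simp only [mul_assoc]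
    _ = (b * b') ^ (r + 1) * b * (b * (b * b') ^ r * b) := by rw [h4, h2]
    _ = (b * b') ^ (r + 1) * (b * b) * (b * b') ^ r * b := by simp only [mul_assoc]
    _ = (b * b') ^ (r + 1 + r) * b := by rw [hbb, mul_one, ← pow_add]
    _ = b := by
      have : r + 1 + r = m := by omega
      rw [this, hy, one_mul]

/-- all involutions are conjugate -/
theorem SEmb.exists_conj {H : Subgroup Γ} (hH : SEmb H) {b c : Γ} (hb : b ∈ H) (hbb : b * b = 1) (hb1 : b ≠ 1)
    (hcc : c * c = 1) (hc1 : c ≠ 1) : ∃ g, g * b * g⁻¹ = c := by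
  obtain ⟨x, hx⟩ := hH.exists_notMem
  have key : ∀ {s t : Γ}, s ∈ H → s * s = 1 → s ≠ 1 → t ∉ H → t * t = 1 → ∃ g, g * t * g⁻¹ = s := by
    intro s t hs hss hs1 ht htt
    obtain ⟨r, hr⟩ := exists_conj_of_odd hss htt (hH.odd_orderOf_mul hs hss hs1 ht htt) (pow_orderOf_eq_one _)
    exact ⟨_, hr⟩
  set t := x * b * x⁻¹ with ht
  have htH : t ∉ H := fun h => hb1 (hH.2 x hx b hb hbb h)
  have htt : t * t = 1 := by
    rw [ht]
    calc x * b * x⁻¹ * (x * b * x⁻¹) = x * (b * b) * x⁻¹ := by group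
      _ = 1 := by rw [hbb]; group
  by_cases hc : c ∈ H
  · obtain ⟨g, hg⟩ := key hc hcc hc1 htH htt
    refine ⟨g * x, ?_⟩
    rw [← hg, ht]; group
  · obtain ⟨g, hg⟩ := key hb hbb hb1 hc hcc
    refine ⟨g⁻¹, ?_⟩
    rw [← hg]; group

/-- if one involution lies in a normal subgroup, all do -/
theorem SEmb.mem_normal {H : Subgroup Γ} (hH : SEmb H) {b c : Γ} (hb : b ∈ H) (hbb : b * b = 1) (hb1 : b ≠ 1)
    {C : Subgroup Γ} [C.Normal] (hcC : c ∈ C) (hcc : c * c = 1) (hc1 : c ≠ 1) : b ∈ C := by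
  obtain ⟨g, hg⟩ := hH.exists_conj hb hbb hb1 hcc hc1
  have h : b = g⁻¹ * c * g := by rw [← hg]; group
  rw [h]
  have := (inferInstance : C.Normal).conj_mem c hcC g⁻¹
  simpa using this

/-- A normal subgroup of a group with a strongly embedded subgroup which does not contain an involution `b` of
`H` has odd order. -/
theorem SEmb.odd_of_notMem {H : Subgroup Γ} (hH : SEmb H) {b : Γ} (hb : b ∈ H) (hbb : b * b = 1) (hb1 : b ≠ 1)
    {C : Subgroup Γ} [C.Normal] (hbC : b ∉ C) : Odd (Nat.card C) := by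
  by_contra hodd
  rw [Nat.not_odd_iff_even] at hodd
  have : Fact (Nat.Prime 2) := ⟨Nat.prime_two⟩
  obtain ⟨c, hc⟩ := exists_prime_orderOf_dvd_card' (G := C) 2 hodd.two_dvd
  have hc2 : (c : Γ) * c = 1 := by
    have := pow_orderOf_eq_one c
    rw [hc, pow_two] at this
    exact_mod_cast this
  have hc1 : (c : Γ) ≠ 1 := by
    intro h
    have : c = 1 := by ext; simpa using h
    rw [this, orderOf_one] at hc
    omega
  exact hbC (hH.mem_normal hb hbb hb1 c.2 hc2 hc1)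

omit [Finite Γ] in
theorem pow_card_mem {C : Subgroup Γ} {y : Γ} (hy : y ∈ C) : y ^ Nat.card C = 1 := by
  have h : (⟨y, hy⟩ : C) ^ Nat.card C = 1 := pow_card_eq_one'
  have h2 := congrArg (Subtype.val : C → Γ) h
  rwa [SubmonoidClass.coe_pow, OneMemClass.coe_one] at h2

omit [Finite Γ] in
/-- an element with square in a normal subgroup of odd order is, modulo it, an involution or `1` -/
theorem exists_involution_coset {C : Subgroup Γ} (hC : Odd (Nat.card C)) {h : Γ} (hh : h * h ∈ C) :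
    ∃ m : ℕ, Odd m ∧ h ^ m * h ^ m = 1 := by
  refine ⟨Nat.card C, hC, ?_⟩
  have := pow_card_mem hh
  rwa [← pow_two, ← pow_mul, mul_comm, pow_mul, pow_two] at this

omit [Finite Γ] in
theorem pow_odd_mem {C : Subgroup Γ} {h : Γ} (hh : h * h ∈ C) {m : ℕ} (hm : Odd m) (hmem : h ^ m ∈ C) : h ∈ C := by
  obtain ⟨r, hr⟩ := hm
  have h1 : h ^ m = (h * h) ^ r * h := by rw [hr, pow_succ, pow_mul, pow_two]
  rw [h1] at hmem
  exact (C.mul_mem_cancel_left (C.pow_mem hh r)).1 hmem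

omit [Finite Γ] in
/-- an involution in `H C`, `C` normal of odd order, is `C`-conjugate into `H` -/
theorem exists_conj_mem {H C : Subgroup Γ} [hCn : C.Normal] (hC : Odd (Nat.card C)) {h : Γ} (hh : h ∈ H ⊔ C)
    (hh2 : h * h = 1) : ∃ c ∈ C, c * h * c⁻¹ ∈ H := by
  obtain ⟨k, hk, c, hc, rfl⟩ := Subgroup.mem_sup_of_normal_right.1 hh
  -- `k` has square in `C`
  have hkk : k * k ∈ C := by
    have h1 : k * k = (k * c * (k * c)) * (c⁻¹ * (k⁻¹ * c⁻¹ * k)) := by group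
    have h2 : k⁻¹ * c⁻¹ * k ∈ C := by
      have := hCn.conj_mem c⁻¹ (C.inv_mem hc) k⁻¹
      simpa using this
    rw [h1, hh2, one_mul]
    exact C.mul_mem (C.inv_mem hc) h2
  obtain ⟨m, hm, hm1⟩ := exists_involution_coset hC hkk
  set t := k ^ m with ht
  have htH : t ∈ H := H.pow_mem hk m
  -- `t ≡ k ≡ k c` modulo `C`
  have htk : t * (k * c)⁻¹ ∈ C := by
    obtain ⟨r, hr⟩ := hm
    have h1 : t = (k * k) ^ r * k := by rw [ht, hr, pow_succ, pow_mul, pow_two]
    rw [h1]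
    have h2 : (k * k) ^ r * k * (k * c)⁻¹ = (k * k) ^ r * (k * c⁻¹ * k⁻¹) := by group
    rw [h2]
    exact C.mul_mem (C.pow_mem hkk r) (hCn.conj_mem _ (C.inv_mem hc) k)
  have hinv : (k * c)⁻¹ = k * c := inv_eq_of_mul_eq_one_left hh2
  rw [hinv] at htk
  obtain ⟨r, hr⟩ := exists_conj_of_odd hm1 hh2 hC (pow_card_mem htk)
  refine ⟨(t * (k * c)) ^ r, C.pow_mem htk r, ?_⟩
  rw [hr]
  exact htH

omit [Finite Γ] in
/-- passing to the quotient by a normal subgroup of odd order -/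
theorem SEmb.quotient_odd {H C : Subgroup Γ} (hH : SEmb H) [hCn : C.Normal] (hC : Odd (Nat.card C))
    {x : Γ} (hx : x ∉ H ⊔ C) {h : Γ} (hh : h ∈ H ⊔ C) (hh2 : h * h ∈ C) (hxh : x * h * x⁻¹ ∈ H ⊔ C) : h ∈ C := by
  by_contra hhC
  obtain ⟨m, hm, hm1⟩ := exists_involution_coset hC hh2
  set t := h ^ m with ht
  have ht1 : t ≠ 1 := by
    intro h1
    exact hhC (pow_odd_mem hh2 hm (by rw [← ht, h1]; exact C.one_mem))
  have htH : t ∈ H ⊔ C := Subgroup.pow_mem _ hh m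
  have hxt : x * t * x⁻¹ ∈ H ⊔ C := by
    have := Subgroup.pow_mem _ hxh m
    rwa [conj_pow] at this
  obtain ⟨c, hc, h1⟩ := exists_conj_mem hC htH hm1
  have hxt2 : x * t * x⁻¹ * (x * t * x⁻¹) = 1 := by
    calc x * t * x⁻¹ * (x * t * x⁻¹) = x * (t * t) * x⁻¹ := by group
      _ = 1 := by rw [hm1]; group
  obtain ⟨c', hc', h2⟩ := exists_conj_mem hC hxt hxt2
  apply hx
  -- `g = c' x c⁻¹` conjugates `c t c⁻¹ ∈ H` into `H`
  have hg : c' * x * c⁻¹ ∈ H := by
    by_contra hg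
    have h3 : c * t * c⁻¹ = 1 := by
      apply hH.2 _ hg _ h1
      · calc c * t * c⁻¹ * (c * t * c⁻¹) = c * (t * t) * c⁻¹ := by group
          _ = 1 := by rw [hm1]; group
      · have : c' * x * c⁻¹ * (c * t * c⁻¹) * (c' * x * c⁻¹)⁻¹ = c' * (x * t * x⁻¹) * c'⁻¹ := by group
        rw [this]; exact h2
    apply ht1
    have : t = c⁻¹ * (c * t * c⁻¹) * c := by group
    rw [this, h3]; group
  have h4 : x = c'⁻¹ * (c' * x * c⁻¹) * c := by group
  rw [h4]
  exact Subgroup.mul_mem _ (Subgroup.mul_mem _ (Subgroup.mem_sup_right (C.inv_mem hc'))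
    (Subgroup.mem_sup_left hg)) (Subgroup.mem_sup_right hc)

end SE

/-! ### Actions on elementary abelian 2-groups -/

section Action

variable {Γ U : Type*} [Group Γ] [Group U]

theorem comm_of_sq (hU : ∀ u : U, u * u = 1) (u v : U) : u * v = v * u := by
  have h1 : ∀ w : U, w⁻¹ = w := fun w => inv_eq_of_mul_eq_one_left (hU w)
  have h2 := h1 (u * v)
  rw [mul_inv_rev, h1, h1] at h2
  exact h2.symm

theorem inv_of_sq (hU : ∀ u : U, u * u = 1) (u : U) : u⁻¹ = u := inv_eq_of_mul_eq_one_left (hU u)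

/-- if `y v = v w`, `y w = w` and `y ^ m` fixes `v`, `m` odd, then `w = 1` -/
theorem eq_one_of_odd (hU : ∀ u : U, u * u = 1) {f : MulAut U} {v w : U} {m : ℕ} (hm : Odd m)
    (hfm : (f ^ m) v = v) (hv : f v = v * w) (hw : f w = w) : w = 1 := by
  have h : ∀ k : ℕ, (f ^ k) v = v * w ^ k := by
    intro k
    induction k with
    | zero => simp
    | succ k ih =>
      rw [pow_succ', MulAut.mul_apply, ih, map_mul, hv, map_pow, hw, pow_succ', mul_assoc]
  rw [h m] at hfm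
  have h1 : w ^ m = 1 := by simpa using hfm
  obtain ⟨r, rfl⟩ := hm
  rw [pow_succ, pow_mul, pow_two, hU, one_pow, one_mul] at h1
  exact h1

/-- (GP2) -/
theorem gp2 (hU : ∀ u : U, u * u = 1) {b b' : MulAut U} (hb : b * b = 1) {m : ℕ} (hm : Odd m)
    (hbb : (b * b') ^ m = 1) {v : U} (hv : b' v = v) (hw : b' (b v * v) = b v * v) : b v = v := by
  have hinv := inv_of_sq hU
  have hcomm := comm_of_sq hU
  have hb2 : ∀ u, b (b u) = u := fun u => by
    have := congrArg (fun f : MulAut U => f u) hb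
    simpa using this
  have hbw : b (b v * v) = b v * v := by rw [map_mul, hb2, hcomm]
  have h1 : b v * v = 1 := by
    apply eq_one_of_odd hU (f := b * b') (v := v) hm
    · rw [hbb]; rfl
    · rw [MulAut.mul_apply, hv, hcomm v, mul_assoc, hU, mul_one]
    · rw [MulAut.mul_apply, hw, hbw]
  have := eq_inv_of_mul_eq_one_left h1
  rw [this, hinv]

/-- (GP) -/
theorem gp (hU : ∀ u : U, u * u = 1) {b b' : MulAut U} (hb : b * b = 1) (hb' : b' * b' = 1) {m : ℕ} (hm : Odd m)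
    (hbb : (b * b') ^ m = 1) {w : U} (hv : b (w * b' w) = w * b' w) :
    ∃ w' : U, w * b' w = w' * b w' := by
  classical
  have hcomm := comm_of_sq hU
  let _ : CommGroup U := { (inferInstance : Group U) with mul_comm := hcomm }
  have hb2 : ∀ u, b (b u) = u := fun u => by
    have := congrArg (fun f : MulAut U => f u) hb
    simpa using this
  have hb2' : ∀ u, b' (b' u) = u := fun u => by
    have := congrArg (fun f : MulAut U => f u) hb'
    simpa using this
  set y := b * b' with hy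
  set v := w * b' w with hvdef
  have hv' : b' v = v := by rw [hvdef, map_mul, hb2', hcomm]
  -- the projection `e u = ∏ y^i u`
  let e : U →* U := ∏ i ∈ Finset.range m, ((y ^ i : MulAut U) : U ≃* U).toMonoidHom
  have he : ∀ u, e u = ∏ i ∈ Finset.range m, (y ^ i) u := by
    intro u
    simp only [e, MonoidHom.finsetProd_apply]
    rfl
  have hyv : y v = v := by rw [hy, MulAut.mul_apply, hv', hv]
  have hyi : ∀ i, (y ^ i) v = v := by
    intro i
    induction i with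
    | zero => simp
    | succ i ih => rw [pow_succ', MulAut.mul_apply, ih, hyv]
  have hev : e v = v := by
    rw [he, Finset.prod_congr rfl (fun i _ => hyi i), Finset.prod_const, Finset.card_range]
    obtain ⟨r, rfl⟩ := hm
    rw [pow_succ, pow_mul, pow_two, hU, one_pow, one_mul]
  have h1 : ∀ i u, y ((y ^ i) u) = (y ^ (i + 1)) u := fun i u => by
    rw [pow_succ' y i]; rfl
  -- `y (e u) = e u`
  have hye : ∀ u, y (e u) = e u := by
    intro u
    rw [he, map_prod]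
    simp only [h1]
    have h2 := Finset.prod_range_succ (fun i => (y ^ i) u) m
    have h3 := Finset.prod_range_succ' (fun i => (y ^ i) u) m
    rw [h2, hbb] at h3
    simp only [pow_zero, MulAut.one_apply] at h3
    exact (mul_right_cancel h3).symm
  have hbe : ∀ u, b' (e u) = b (e u) := by
    intro u
    have h1 := hye u
    rw [hy, MulAut.mul_apply] at h1
    have := congrArg b h1
    rw [hb2] at this
    exact this
  -- `e` commutes with `b'`
  have hb'b' : ∀ u, e (b' u) = b' (e u) := by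
    intro u
    have h5 : ∀ i ∈ Finset.range m, b' ((y ^ i) u) = (y ^ (m - 1 - i + 1)) (b' u) := by
      intro i hi
      rw [Finset.mem_range] at hi
      have h6 : b' * y ^ i = y ^ (m - 1 - i + 1) * b' := by
        have h7 : b' * y ^ i * b' = (y ^ i)⁻¹ := inv_conj_pow' hb hb' i
        have h8 : (y ^ i)⁻¹ = y ^ (m - 1 - i + 1) := by
          rw [inv_eq_iff_mul_eq_one, ← pow_add]
          have : i + (m - 1 - i + 1) = m := by omega
          rw [this, hbb]
        rw [← h8, ← h7, mul_assoc (b' * y ^ i), hb', mul_one]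
      have := congrArg (fun f : MulAut U => f u) h6
      simpa using this
    rw [he u, map_prod, Finset.prod_congr rfl h5, Finset.prod_range_reflect (fun i => (y ^ (i + 1)) (b' u)) m]
    have h9 := hye (b' u)
    rw [he, map_prod] at h9
    simp only [h1] at h9
    rw [h9, ← he]
  refine ⟨e w, ?_⟩
  rw [← hbe, ← hb'b', ← map_mul]
  exact hev.symm

/-- trivial action of a product of odd order -/
theorem claim1 (hU : ∀ u : U, u * u = 1) {b b' : MulAut U} (hb : b * b = 1) (hb' : b' * b' = 1) {m : ℕ} (hm : Odd m)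
    (hbb : (b * b') ^ m = 1) (h1 : ∀ u, b (b' u * u) = b' u * u) (h2 : ∀ u, b (b' (b u * u) * (b u * u)) =
      b' (b u * u) * (b u * u)) : b * b' = 1 := by
  have hcomm := comm_of_sq hU
  have hb2 : ∀ u, b (b u) = u := fun u => by
    have := congrArg (fun f : MulAut U => f u) hb
    simpa using this
  have hb2' : ∀ u, b' (b' u) = u := fun u => by
    have := congrArg (fun f : MulAut U => f u) hb'
    simpa using this
  have key : ∀ v : U, (b * b') v = v * ((b v * v) * (b' v * v)) := by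
    intro v
    have h3 : b' v = v * (b' v * v) := by rw [hcomm (b' v), ← mul_assoc, hU, one_mul]
    have h4 : b v = v * (b v * v) := by rw [hcomm (b v), ← mul_assoc, hU, one_mul]
    calc (b * b') v = b (b' v) := rfl
      _ = b (v * (b' v * v)) := by rw [← h3]
      _ = b v * (b' v * v) := by rw [map_mul, h1]
      _ = v * ((b v * v) * (b' v * v)) := by rw [← mul_assoc v, ← h4]
  -- `b'` fixes `b v * v`
  have hfix : ∀ v : U, b' (b v * v) = b v * v := by
    intro v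
    set w := b v * v with hw
    have hbw : b w = w := by rw [hw, map_mul, hb2, hcomm]
    have h5 : b' w * w = 1 := by
      apply eq_one_of_odd hU (f := b * b') (v := w) hm
      · rw [hbb]; rfl
      · rw [key w, hbw, hU, one_mul]
      · rw [MulAut.mul_apply, map_mul, hb2', hcomm w, h2]
    have := eq_inv_of_mul_eq_one_left h5
    rw [this, inv_of_sq hU]
  ext v
  have h6 : (b v * v) * (b' v * v) = 1 := by
    apply eq_one_of_odd hU (f := b * b') (v := v) hm
    · rw [hbb]; rfl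
    · exact key v
    · have hB : b (b v * v) = b v * v := by rw [map_mul, hb2, hcomm]
      have hB' : b' (b' v * v) = b' v * v := by rw [map_mul, hb2', hcomm]
      rw [MulAut.mul_apply, map_mul b', hfix, hB', map_mul b, hB, h1]
  rw [key v, h6, mul_one]; rfl

/-! ### The main lemma -/

/-- relative strongly embedded: odd order of products -/
theorem exists_odd {Γ' : Type*} [Group Γ'] [Finite Γ'] (ρ : Γ →* Γ') {H : Subgroup Γ} (hker : ρ.ker ≤ H)
    (hse : ∀ x ∉ H, ∀ h ∈ H, ρ (h * h) = 1 → x * h * x⁻¹ ∈ H → ρ h = 1) {b b' : Γ} (hb : b ∈ H)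
    (hbb : ρ (b * b) = 1) (hb1 : ρ b ≠ 1) (hb' : b' ∉ H) (hbb' : ρ (b' * b') = 1) :
    ∃ m, Odd m ∧ (ρ b * ρ b') ^ m = 1 := by
  have hmem : ∀ g : Γ, ρ.rangeRestrict g ∈ H.map ρ.rangeRestrict ↔ g ∈ H := by
    intro g
    constructor
    · rintro ⟨k, hk, hkg⟩
      have h1 : ρ k = ρ g := congrArg Subtype.val hkg
      have h2 : k⁻¹ * g ∈ ρ.ker := by rw [MonoidHom.mem_ker, map_mul, map_inv, h1, inv_mul_cancel]
      have := H.mul_mem hk (hker h2)
      rwa [mul_inv_cancel_left] at this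
    · exact fun h => ⟨g, h, rfl⟩
  have hS : SEmb (H.map ρ.rangeRestrict) := by
    constructor
    · intro h
      apply hb'
      rw [← hmem, h]
      exact Subgroup.mem_top _
    · intro x hx h hh hh2 hxh
      obtain ⟨x, rfl⟩ := ρ.rangeRestrict_surjective x
      obtain ⟨k, hk, rfl⟩ := hh
      rw [hmem] at hx
      have h1 : ρ (k * k) = 1 := by
        have := congrArg Subtype.val hh2
        simpa using this
      have h2 : x * k * x⁻¹ ∈ H := by
        rw [← hmem]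
        simpa using hxh
      have h3 := hse x hx k hk h1 h2
      ext
      simpa using h3
  have h4 := hS.odd_orderOf_mul (b := ρ.rangeRestrict b) (b' := ρ.rangeRestrict b') ((hmem b).2 hb)
    (by ext; simpa using hbb) (by
      intro h
      apply hb1
      have := congrArg Subtype.val h
      simpa using this) (by rw [hmem]; exact hb') (by ext; simpa using hbb')
  refine ⟨_, h4, ?_⟩
  have h5 := pow_orderOf_eq_one (ρ.rangeRestrict b * ρ.rangeRestrict b')
  have h6 := congrArg Subtype.val h5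
  rw [SubmonoidClass.coe_pow] at h6
  exact h6

/-- **Lemma (SE).** -/
theorem se_main [Finite U] (hU : ∀ u : U, u * u = 1) (ρ : Γ →* MulAut U) {H : Subgroup Γ} (hker : ρ.ker ≤ H)
    (hse : ∀ x ∉ H, ∀ h ∈ H, ρ (h * h) = 1 → x * h * x⁻¹ ∈ H → ρ h = 1) {B : Subgroup Γ} (hBH : B ≤ H)
    {Z1 C1 : Subgroup U} (hC1 : ∀ v, v ∈ C1 ↔ ∀ b ∈ B, ρ b v = v) (hZC : Z1 ≤ C1)
    (hq : ∀ b ∈ B, ∀ v, ρ b v * v ∈ Z1) (hsurj : ∀ v ∉ C1, ∀ z ∈ Z1, ∃ b ∈ B, ρ b v * v = z) (hne : C1 ≠ ⊤)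
    {x : Γ} (hx : x ∉ H) :
    (∀ z ∈ Z1, (∀ b ∈ B, ρ (x * b * x⁻¹) z = z) → z = 1) ∧
    (∀ z ∈ Z1, ρ x z ∈ C1 → z = 1) ∧
    (∀ z ∈ Z1, z ≠ 1 → ∀ b ∈ B, ρ b (ρ x z) = ρ x z → ρ b = 1) := by
  have hcomm := comm_of_sq hU
  have hfix : ∀ b ∈ B, ∀ z ∈ Z1, ρ b z = z := fun b hb z hz => (hC1 z).1 (hZC hz) b hb
  have hmulaut : Finite (MulAut U) := inferInstance
  have hsq : ∀ b ∈ B, ρ b * ρ b = 1 := by
    intro b hb
    ext v
    have h1 : ρ b v = ρ b v * v * v := by rw [mul_assoc, hU, mul_one]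
    have h2 : ρ b (ρ b v) = ρ b v * v * ρ b v := by
      conv_lhs => rw [h1, map_mul, hfix b hb _ (hq b hb v)]
    rw [MulAut.mul_apply, h2, hcomm (ρ b v) v, mul_assoc, hU, mul_one]
    rfl
  have hsq' : ∀ b ∈ B, ρ (b * b) = 1 := fun b hb => by rw [map_mul, hsq b hb]
  -- a non-trivially acting element
  obtain ⟨b₀, hb₀, hb₀1⟩ : ∃ b ∈ B, ρ b ≠ 1 := by
    by_contra hcon
    push Not at hcon
    apply hne
    rw [eq_top_iff]
    intro v _
    rw [hC1]
    intro b hb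
    rw [hcon b hb]; rfl
  -- for all `x ∉ H`
  have hconjsq : ∀ (x : Γ), ∀ b ∈ B, ρ (x * b * x⁻¹ * (x * b * x⁻¹)) = 1 := by
    intro x b hb
    have : x * b * x⁻¹ * (x * b * x⁻¹) = x * (b * b) * x⁻¹ := by group
    rw [this, map_mul, map_mul, hsq' b hb, mul_one, ← map_mul, mul_inv_cancel, map_one]
  have hconjsq2 : ∀ (x : Γ), ∀ b ∈ B, ρ (x * b * x⁻¹) * ρ (x * b * x⁻¹) = 1 := fun x b hb => by
    rw [← map_mul]; exact hconjsq x b hb
  have hconj1 : ∀ (x : Γ), ∀ b : Γ, ρ b ≠ 1 → ρ (x * b * x⁻¹) ≠ 1 := by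
    intro x b hb h
    apply hb
    have h2 : b = x⁻¹ * (x * b * x⁻¹) * x := by group
    rw [h2, map_mul, map_mul, h, mul_one, ← map_mul, inv_mul_cancel, map_one]
  have hnotH : ∀ x ∉ H, ∀ b ∈ B, ρ b ≠ 1 → x * b * x⁻¹ ∉ H := by
    intro x hx b hb hb1 h
    exact hb1 (hse x hx b (hBH hb) (hsq' b hb) h)
  have hodd : ∀ x ∉ H, ∀ b ∈ B, ρ b ≠ 1 → ∀ b' ∈ B, ρ b' ≠ 1 →
      ∃ m, Odd m ∧ (ρ b * ρ (x * b' * x⁻¹)) ^ m = 1 := by
    intro x hx b hb hb1 b' hb' hb1'
    exact exists_odd ρ hker hse (hBH hb) (hsq' b hb) hb1 (hnotH x hx b' hb' hb1') (hconjsq x b' hb')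
  have hρx : ∀ (x b : Γ) (v : U), ρ (x * b * x⁻¹) v = ρ x (ρ b (ρ x⁻¹ v)) := by
    intro x b v
    rw [map_mul, map_mul]; rfl
  have hxx : ∀ (x : Γ) (v : U), ρ x⁻¹ (ρ x v) = v := by
    intro x v
    rw [← MulAut.mul_apply, ← map_mul, inv_mul_cancel, map_one]; rfl
  have hxx' : ∀ (x : Γ) (v : U), ρ x (ρ x⁻¹ v) = v := by
    intro x v
    rw [← MulAut.mul_apply, ← map_mul, mul_inv_cancel, map_one]; rfl
  have hq' : ∀ (x : Γ), ∀ b ∈ B, ∀ v, ∃ z ∈ Z1, ρ (x * b * x⁻¹) v * v = ρ x z := by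
    intro x b hb v
    refine ⟨ρ b (ρ x⁻¹ v) * (ρ x⁻¹ v), hq b hb _, ?_⟩
    rw [hρx, map_mul (ρ x), hxx']
  -- Claim 1: some element of `Z1^x` is moved by `B`
  have c1 : ∀ x ∉ H, ∃ z ∈ Z1, ρ x z ∉ C1 := by
    intro x hx
    by_contra hcon
    push Not at hcon
    obtain ⟨m, hm, hbb⟩ := hodd x hx b₀ hb₀ hb₀1 b₀ hb₀ hb₀1
    have h1 := claim1 hU (hsq b₀ hb₀) (hconjsq2 x b₀ hb₀) hm hbb (by
      intro u
      obtain ⟨z, hz, he⟩ := hq' x b₀ hb₀ u
      rw [he]
      exact (hC1 _).1 (hcon z hz) b₀ hb₀) (by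
      intro u
      obtain ⟨z, hz, he⟩ := hq' x b₀ hb₀ (ρ b₀ u * u)
      rw [he]
      exact (hC1 _).1 (hcon z hz) b₀ hb₀)
    -- then `x b₀ x⁻¹ ∈ H`
    apply hnotH x hx b₀ hb₀ hb₀1
    have h2 : b₀ * (x * b₀ * x⁻¹) ∈ H := by
      apply hker
      rw [MonoidHom.mem_ker, map_mul]
      exact h1
    exact (H.mul_mem_cancel_left (hBH hb₀)).1 h2
  -- Claim 3
  have c3 : ∀ x ∉ H, ∀ z ∈ Z1, (∀ b ∈ B, ρ (x * b * x⁻¹) z = z) → z = 1 := by
    intro x hx z hz hzb
    obtain ⟨z', hz', hv⟩ := c1 x hx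
    obtain ⟨b, hb, he⟩ := hsurj _ hv z hz
    by_cases hb1 : ρ b = 1
    · rw [← he, hb1]
      exact hU _
    · obtain ⟨m, hm, hbb⟩ := hodd x hx b hb hb1 b₀ hb₀ hb₀1
      have h1 := gp2 hU (hsq b hb) hm hbb (v := ρ x z') (by
        rw [hρx, hxx, hfix b₀ hb₀ z' hz']) (by rw [he]; exact hzb b₀ hb₀)
      rw [← he, h1]
      exact hU _
  refine ⟨c3 x hx, ?_, ?_⟩
  · intro z hz hzC
    have hx' : x⁻¹ ∉ H := fun h => hx (by simpa using H.inv_mem h)
    apply c3 _ hx' z hz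
    intro b hb
    rw [hρx, inv_inv, (hC1 _).1 hzC b hb, hxx]
  · intro z hz hz1 b hb hfixb
    by_contra hb1
    obtain ⟨m, hm, hbb⟩ := hodd x hx b hb hb1 b₀ hb₀ hb₀1
    set b' := x * b₀ * x⁻¹ with hb'
    obtain ⟨r, hr⟩ := exists_conj_of_odd (hsq b hb) (hconjsq2 x b₀ hb₀) hm hbb
    -- `w = (b b')^r`, `w b' w⁻¹ ≡ b`
    set w := (b * b') ^ r with hw
    have hρw : ρ w = (ρ b * ρ b') ^ r := by rw [hw, map_pow, map_mul]
    have hwb : ρ (w * b' * w⁻¹) = ρ b := by rw [map_mul, map_mul, map_inv, hρw, hr]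
    -- `w x ∈ H`
    have hwx : w * x ∈ H := by
      by_contra hwx
      apply hb₀1
      apply hse _ hwx b₀ (hBH hb₀) (hsq' b₀ hb₀)
      have h1 : w * x * b₀ * (w * x)⁻¹ = w * b' * w⁻¹ := by rw [hb']; group
      rw [h1]
      have h2 : b⁻¹ * (w * b' * w⁻¹) ∈ H := by
        apply hker
        rw [MonoidHom.mem_ker, map_mul, map_inv, hwb, inv_mul_cancel]
      exact (H.mul_mem_cancel_left (H.inv_mem (hBH hb))).1 h2
    -- `w` fixes `ρ x z`
    have hb'fix : ρ b' (ρ x z) = ρ x z := by rw [hb', hρx, hxx, hfix b₀ hb₀ z hz]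
    have hwfix : ρ w (ρ x z) = ρ x z := by
      rw [hρw]
      have : ∀ k : ℕ, ((ρ b * ρ b') ^ k) (ρ x z) = ρ x z := by
        intro k
        induction k with
        | zero => simp
        | succ k ih => rw [pow_succ', MulAut.mul_apply, ih, MulAut.mul_apply, hb'fix, hfixb]
      exact this r
    -- `h = w x`, `h⁻¹ x ∉ H`
    have hnot : (w * x)⁻¹ * x ∉ H := by
      intro h
      exact hx ((H.mul_mem_cancel_left (H.inv_mem hwx)).1 h)
    apply hz1
    -- `ρ (h⁻¹ x) z = z`, so `z ∈ Z1 ∩ Z1^(h⁻¹ x)`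
    have h5 : ρ ((w * x)⁻¹ * x) z = z := by
      have h7 : ρ w (ρ x z) = ρ (w * x) z := by rw [map_mul]; rfl
      rw [map_mul, MulAut.mul_apply, ← hwfix, h7, hxx]
    apply c3 _ hnot z hz
    intro b1 hb1'
    rw [hρx]
    have h6 : ρ ((w * x)⁻¹ * x)⁻¹ z = z := by
      conv_lhs => rw [← h5]
      rw [hxx]
    rw [h6, hfix b1 hb1' z hz, h5]

/-- **Lemma (SE), cardinalities.** -/
theorem se_card [Finite U] (hU : ∀ u : U, u * u = 1) (ρ : Γ →* MulAut U) {H : Subgroup Γ} (hker : ρ.ker ≤ H)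
    (hse : ∀ x ∉ H, ∀ h ∈ H, ρ (h * h) = 1 → x * h * x⁻¹ ∈ H → ρ h = 1) {B : Subgroup Γ} (hBH : B ≤ H)
    {Z1 C1 : Subgroup U} (hC1 : ∀ v, v ∈ C1 ↔ ∀ b ∈ B, ρ b v = v) (hZC : Z1 ≤ C1)
    (hq : ∀ b ∈ B, ∀ v, ρ b v * v ∈ Z1) (hsurj : ∀ v ∉ C1, ∀ z ∈ Z1, ∃ b ∈ B, ρ b v * v = z) (hne : C1 ≠ ⊤)
    {x : Γ} (hx : x ∉ H) :
    Nat.card (B.map ρ) = Nat.card Z1 ∧ Nat.card Z1 * Nat.card C1 ≤ Nat.card U := by
  classical
  have hcomm := comm_of_sq hU
  obtain ⟨h1, h2, h3⟩ := se_main hU ρ hker hse hBH hC1 hZC hq hsurj hne hx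
  have hfix : ∀ b ∈ B, ∀ z ∈ Z1, ρ b z = z := fun b hb z hz => (hC1 z).1 (hZC hz) b hb
  constructor
  · -- a nontrivial element of `Z1`
    obtain ⟨z, hz, hz1⟩ : ∃ z ∈ Z1, z ≠ 1 := by
      by_contra hcon
      push Not at hcon
      apply hne
      rw [eq_top_iff]
      intro v _
      rw [hC1]
      intro b hb
      have := hcon _ (hq b hb v)
      rw [eq_inv_of_mul_eq_one_left this, inv_of_sq hU]
    set v := ρ x z with hv
    have hvC : v ∉ C1 := fun h => hz1 (h2 z hz h)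
    -- the map `ρ b ↦ ρ b v * v`
    let f : B.map ρ → Z1 := fun β => ⟨β.1 v * v, by
      obtain ⟨b, hb, he⟩ := β.2
      rw [← he]; exact hq b hb v⟩
    apply Nat.card_eq_of_bijective f
    constructor
    · rintro ⟨_, b, hb, rfl⟩ ⟨_, b', hb', rfl⟩ hff
      have e : ρ b v * v = ρ b' v * v := congrArg Subtype.val hff
      have e' : ρ b v = ρ b' v := mul_right_cancel e
      have e2 : ρ (b⁻¹ * b') v = v := by
        rw [map_mul, MulAut.mul_apply, ← e', ← MulAut.mul_apply, ← map_mul, inv_mul_cancel, map_one]; rfl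
      have e3 := h3 z hz hz1 _ (B.mul_mem (B.inv_mem hb) hb') e2
      rw [map_mul, map_inv, inv_mul_eq_one] at e3
      exact Subtype.ext e3
    · rintro ⟨z', hz'⟩
      obtain ⟨b, hb, he⟩ := hsurj v hvC z' hz'
      exact ⟨⟨ρ b, b, hb, rfl⟩, Subtype.ext he⟩
  · -- `Z1^x ∩ C1 = 1`
    set Z' := Z1.map ((ρ x : MulAut U) : U ≃* U).toMonoidHom with hZ'
    have hcardZ : Nat.card Z' = Nat.card Z1 :=
      Nat.card_congr (Z1.equivMapOfInjective _ (ρ x : U ≃* U).injective).symm.toEquiv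
    rw [← hcardZ, ← Nat.card_prod]
    apply Nat.card_le_card_of_injective (fun p : Z' × C1 => (p.1 : U) * (p.2 : U))
    rintro ⟨⟨a, ha⟩, ⟨c, hc⟩⟩ ⟨⟨a', ha'⟩, ⟨c', hc'⟩⟩ he
    have he' : a * c = a' * c' := he
    have e1 : a'⁻¹ * a = c' * c⁻¹ := by
      rw [eq_mul_inv_iff_mul_eq, mul_assoc, he', inv_mul_cancel_left]
    have e2 : a'⁻¹ * a ∈ Z' := Z'.mul_mem (Z'.inv_mem ha') ha
    have e3 : a'⁻¹ * a ∈ C1 := by rw [e1]; exact C1.mul_mem hc' (C1.inv_mem hc)
    obtain ⟨z, hz, hze⟩ := e2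
    have hze' : ρ x z = a'⁻¹ * a := hze
    have e4 : z = 1 := h2 z hz (by rw [hze']; exact e3)
    rw [e4, map_one] at hze'
    have e5 : a = a' := (inv_mul_eq_one.1 hze'.symm).symm
    subst e5
    have e6 : c = c' := mul_left_cancel he'
    subst e6
    rfl

end Action

end Cfsg.Agent.Hex.SEAbs
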